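import Cfsg.Agent.Lib.OrthMax.TensorOO.Radical
import Cfsg.Agent.Lib.OrthMax.TensorOO.Norms
import Cfsg.Agent.Lib.Geometry.OmegaMem

/-! Frames of the two factors of `O₃ ⊗ O₄⁻` and the elements given by isometries of the factors. -/

set_option autoImplicit false
set_option linter.unusedSectionVars false
set_option linter.unusedVariables false
set_option linter.unusedSimpArgs false

namespace CfsgLib.TensorOO

open QuadraticMap CfsgLib.Geometry CfsgLib.OrthMax
open CfsgLib.TensorSp (In)
open LinearMap (BilinForm)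

variable {F X : Type*} [Field F] [AddCommGroup X] [Module F X] [FiniteDimensional F X]

/-- A hyperbolic pair and an anisotropic vector orthogonal to it. -/
structure Frame3 (B : BilinForm F X) (z z' a : X) : Prop where
  iz : B z z = 0
  iz' : B z' z' = 0
  zz' : B z z' = 1
  za : B z a = 0
  z'a : B z' a = 0
  aa : B a a ≠ 0

/-- A hyperbolic pair and two orthogonal anisotropic vectors orthogonal to it. -/
structure Frame4 (B : BilinForm F X) (w w' b c : X) : Prop extends Frame3 B w w' b where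
  wc : B w c = 0
  w'c : B w' c = 0
  bc : B b c = 0
  cc : B c c ≠ 0

namespace Nice

variable {B : BilinForm F X} (hB : Nice B)

include hB

/-- The orthogonal of a hyperbolic pair. -/
theorem pair_perp {z z' : X} (hz : B z z = 0) (hz' : B z' z' = 0) (hzz' : B z z' = 1) :
    NdIn B (LinearMap.ker (B z) ⊓ LinearMap.ker (B z')) ∧
      Module.finrank F (LinearMap.ker (B z) ⊓ LinearMap.ker (B z') : Submodule F X) + 2 = Module.finrank F X := by
  have hz'z : B z' z = 1 := by rw [hB.sym, hzz']
  refine ⟨fun x hx hall => hB.nd.1 x fun y => ?_, ?_⟩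
  · have hxz : B x z = 0 := by rw [hB.sym]; exact hx.1
    have hxz' : B x z' = 0 := by rw [hB.sym]; exact hx.2
    have := hall (y - B z' y • z - B z y • z') ⟨LinearMap.mem_ker.2 (by simp [hz, hzz']),
      LinearMap.mem_ker.2 (by simp [hz', hz'z])⟩
    simpa [hxz, hxz'] using this
  · have hz0 : z ≠ 0 := fun e => by rw [e, map_zero, LinearMap.zero_apply] at hzz'; exact zero_ne_one hzz'
    have h1 := hB.finrank_ker hz0
    have h2 := finrank_ker_two (B := B) z z'
    have hne : LinearMap.ker (B z) ⊓ LinearMap.ker (B z') ≠ LinearMap.ker (B z) := fun e => by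
      have hm : z ∈ LinearMap.ker (B z) := hz
      rw [← e] at hm
      have := LinearMap.mem_ker.1 hm.2
      rw [hz'z] at this
      exact one_ne_zero this
    have h3 := Submodule.finrank_lt_finrank_of_lt (lt_of_le_of_ne inf_le_left hne)
    omega

theorem exists_frame3 [Finite F] (h3 : Module.finrank F X = 3) {z : X} (hz0 : z ≠ 0) (hz : B z z = 0) :
    ∃ z' a, Frame3 B z z' a := by
  obtain ⟨z', hz', hzz'⟩ := hB.exists_partner hz0 hz
  obtain ⟨hN, hd⟩ := hB.pair_perp hz hz' hzz'
  obtain ⟨a, ha, haa⟩ := hB.exists_aniso_nd hN (by omega)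
  exact ⟨z', a, hz, hz', hzz', ha.1, ha.2, haa⟩

theorem exists_frame4 [Finite F] (h4 : Module.finrank F X = 4) {w : X} (hw0 : w ≠ 0) (hw : B w w = 0) :
    ∃ w' b c, Frame4 B w w' b c := by
  obtain ⟨w', hw', hww'⟩ := hB.exists_partner hw0 hw
  obtain ⟨hN, hd⟩ := hB.pair_perp hw hw' hww'
  obtain ⟨b, hb, hbb⟩ := hB.exists_aniso_nd hN (by omega)
  have h1 := finrank_inter hb hbb
  obtain ⟨c, hc, hcc⟩ := hB.exists_aniso_nd (hB.ndIn_inter hN hb hbb) (by omega)
  exact ⟨w', b, c, ⟨hw, hw', hww', hb.1, hb.2, hbb⟩, hc.1.1, hc.1.2, hc.2, hcc⟩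

end Nice

namespace Frame3

variable {B : BilinForm F X} {z z' a : X} (k : Frame3 B z z' a) (hB : Nice B)

include k hB

theorem z'z : B z' z = 1 := by rw [hB.sym, k.zz']

theorem az : B a z = 0 := by rw [hB.sym, k.za]

theorem az' : B a z' = 0 := by rw [hB.sym, k.z'a]

theorem swap : Frame3 B z' z a := ⟨k.iz', k.iz, k.z'z hB, k.z'a, k.za, k.aa⟩

omit hB in
theorem z0 : z ≠ 0 := fun e => by
  have := k.zz'
  rw [e, map_zero, LinearMap.zero_apply] at this
  exact zero_ne_one this

theorem decomp (h3 : Module.finrank F X = 3) (x : X) :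
    x = B z' x • z + B z x • z' + (B a x / B a a) • a := by
  obtain ⟨-, hd⟩ := hB.pair_perp k.iz k.iz' k.zz'
  have h1 := Nice.finrank_inter (B := B) (S := LinearMap.ker (B z) ⊓ LinearMap.ker (B z')) (e := a) ⟨k.za, k.z'a⟩ k.aa
  refine sub_eq_zero.1 (Submodule.eq_bot_iff _ |>.1 (Submodule.finrank_eq_zero.1
    (show Module.finrank F (LinearMap.ker (B z) ⊓ LinearMap.ker (B z') ⊓ LinearMap.ker (B a) : Submodule F X) = 0
      by omega)) _ ?_)
  have haa := k.aa
  refine ⟨⟨?_, ?_⟩, ?_⟩ <;>
    simp [k.iz, k.iz', k.zz', k.za, k.z'a, k.z'z hB, k.az hB, k.az' hB, div_mul_cancel₀ _ haa]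

end Frame3

namespace Frame4

variable {B : BilinForm F X} {w w' b c : X} (k : Frame4 B w w' b c) (hB : Nice B)

include k hB

theorem cw : B c w = 0 := by rw [hB.sym, k.wc]

theorem cw' : B c w' = 0 := by rw [hB.sym, k.w'c]

theorem cb : B c b = 0 := by rw [hB.sym, k.bc]

theorem decomp (h4 : Module.finrank F X = 4) (x : X) :
    x = B w' x • w + B w x • w' + (B b x / B b b) • b + (B c x / B c c) • c := by
  obtain ⟨hN, hd⟩ := hB.pair_perp k.iz k.iz' k.zz'
  have h1 := Nice.finrank_inter (B := B) (S := LinearMap.ker (B w) ⊓ LinearMap.ker (B w')) (e := b) ⟨k.za, k.z'a⟩ k.aa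
  have h2 := Nice.finrank_inter (B := B) (S := LinearMap.ker (B w) ⊓ LinearMap.ker (B w') ⊓ LinearMap.ker (B b)) (e := c)
    ⟨⟨k.wc, k.w'c⟩, k.bc⟩ k.cc
  refine sub_eq_zero.1 (Submodule.eq_bot_iff _ |>.1 (Submodule.finrank_eq_zero.1
    (show Module.finrank F (LinearMap.ker (B w) ⊓ LinearMap.ker (B w') ⊓ LinearMap.ker (B b) ⊓ LinearMap.ker (B c) :
      Submodule F X) = 0 by omega)) _ ?_)
  have hbb := k.aa
  have hcc := k.cc
  have k' := k.toFrame3
  refine ⟨⟨⟨?_, ?_⟩, ?_⟩, ?_⟩ <;>
    simp [k.iz, k.iz', k.zz', k.za, k.z'a, k'.z'z hB, k'.az hB, k'.az' hB, k.wc, k.w'c, k.bc, k.cw hB, k.cw' hB,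
      k.cb hB, div_mul_cancel₀ _ hbb, div_mul_cancel₀ _ hcc]

end Frame4

variable {V U W : Type*} [AddCommGroup V] [Module F V] [AddCommGroup U] [Module F U]
  [AddCommGroup W] [Module F W]
variable [FiniteDimensional F V] [FiniteDimensional F U] [FiniteDimensional F W]
variable {Q : QuadraticForm F V} {M : Subgroup (V ≃ₗ[F] V)}

namespace TData

/-- A three-dimensional first factor over a field with a small scalar. -/
structure ThreeU (h : TData Q U W) : Prop where
  dU : Module.finrank F U = 3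
  hex : ∃ s : F, s ≠ 0 ∧ s * s ≠ 1

variable (h : TData Q U W)

/-- The two factors of `O₃ ⊗ O₄⁻`. -/
structure Three : Prop extends h.ThreeU where
  dW : Module.finrank F W = 4
  noPair : ∀ w v : W, w ≠ 0 → h.gW w w = 0 → h.gW v v = 0 → h.gW w v = 0 → v ∈ Submodule.span F {w}

/-- The operator induced by an endomorphism of the first factor. -/
theorem exists_tU (γ : Module.End F U) : ∃ X : Module.End F V, ∀ u y, X (h.tp u y) = h.tp (γ u) y := by
  let b := Module.finBasis F W
  let d := h.gW.dualBasis h.gN.nd b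
  refine ⟨∑ i, h.P (b i) (d i) γ, fun u y => ?_⟩
  have hy : y = ∑ i, h.gW (d i) y • b i := by
    conv_lhs => rw [← b.sum_repr y]
    refine Finset.sum_congr rfl fun i _ => ?_
    congr 1
    conv_rhs => rw [← b.sum_repr y]
    rw [map_sum, Finset.sum_eq_single i]
    · simp [d, LinearMap.BilinForm.apply_dualBasis_left]
    · intro j _ hji
      simp [d, LinearMap.BilinForm.apply_dualBasis_left, hji]
    · simp
  conv_rhs => rw [hy]
  simp [P_apply, LinearMap.sum_apply]

/-- An isometry of the first factor gives an isometry of the space. -/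
theorem exists_orthU {γ : Module.End F U} (hγ : ∀ x y, h.fU (γ x) (γ y) = h.fU x y) :
    ∃ k ∈ orth Q, ∀ u y, k (h.tp u y) = h.tp (γ u) y := by
  obtain ⟨X, hX⟩ := h.exists_tU γ
  have hp : ∀ S T, polar Q (X S) (X T) = polar Q S T := fun S T => by
    have h1 : ∀ u y, polar Q (X (h.tp u y)) (X T) = polar Q (h.tp u y) T := fun u y => by
      have := LinearMap.congr_fun (h.ext_tp (φ := (polarBilin Q (X (h.tp u y))) ∘ₗ X) (ψ := polarBilin Q (h.tp u y))
        fun u' y' => by simp [hX, h.pol, hγ]) T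
      simpa using this
    have := LinearMap.congr_fun (h.ext_tp (φ := ((polarBilin Q).flip (X T)) ∘ₗ X) (ψ := (polarBilin Q).flip T)
      fun u y => by simpa using h1 u y) S
    simpa using this
  have hi : Function.Injective X := (injective_iff_map_eq_zero _).2 fun S hS => h.qnd.1 S fun T => by
    rw [polarBilin_apply_apply, ← hp, hS, polar_zero_left]
  refine ⟨LinearEquiv.ofBijective X ⟨hi, LinearMap.injective_iff_surjective.1 hi⟩, mem_orth.2 fun T => ?_, hX⟩
  refine mul_left_cancel₀ h.h2 ?_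
  rw [← polar_self', ← polar_self']
  exact hp T T

/-- Equivalences agreeing on pure tensors are equal. -/
theorem equiv_ext {g k : V ≃ₗ[F] V} (e : ∀ u y, g (h.tp u y) = k (h.tp u y)) : g = k :=
  LinearEquiv.ext fun T => LinearMap.congr_fun (h.ext_tp (φ := g.toLinearMap) (ψ := k.toLinearMap) e) T

end TData

/-- Squares lie in the Siegel group. -/
theorem sq_siegel [Finite F] (hQ : (polarBilin Q).Nondegenerate) (h2 : (2 : F) ≠ 0) (hV : 5 ≤ Module.finrank F V)
    {k : V ≃ₗ[F] V} (hk : k ∈ orth Q) : k * k ∈ siegelGroup Q := by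
  have hR := reflGroup_eq_orth_of_two_ne hQ h2
  refine (mem_commutator_iff_siegelGroup hQ hV (⟨k, hk⟩ * ⟨k, hk⟩ : orth Q)).1 ?_
  rw [← ker_orthInvariant hQ (by omega) h2 hR, MonoidHom.mem_ker, map_mul]
  refine Prod.ext (sqClass_mul_self _) ?_
  have : ∀ d : Multiplicative (ZMod 2), d * d = 1 := by decide
  exact this _

namespace TData

variable (h : TData Q U W)

/-- Minus one off an anisotropic vector. -/
noncomputable def sigma (e : U) : Module.End F U := (2 / h.fU e e) • h.rk e e - 1

theorem sigma_apply (e u : U) : h.sigma e u = (2 * h.fU e u / h.fU e e) • e - u := by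
  simp [sigma, rk_apply, smul_smul]
  ring_nf

theorem sigma_self {e : U} (he : h.fU e e ≠ 0) : h.sigma e e = e := by
  rw [sigma_apply, mul_div_assoc, div_self he, mul_one, two_smul, add_sub_cancel_right]

theorem sigma_perp {e u : U} (hu : h.fU e u = 0) : h.sigma e u = -u := by
  rw [sigma_apply, hu, mul_zero, zero_div, zero_smul, zero_sub]

theorem sigma_isom {e : U} (he : h.fU e e ≠ 0) (x y : U) : h.fU (h.sigma e x) (h.sigma e y) = h.fU x y := by
  simp only [sigma_apply, map_sub, map_smul, LinearMap.sub_apply, LinearMap.smul_apply, smul_eq_mul, h.f_sym x e]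
  field_simp
  ring

theorem sigma_sq {e : U} (he : h.fU e e ≠ 0) (u : U) : h.sigma e (h.sigma e u) = u := by
  simp only [sigma_apply, map_sub, map_smul, smul_eq_mul]
  match_scalars <;> field_simp <;> ring

/-- A fixed vector of a half turn is on its axis. -/
theorem sigma_fixed {e u : U} (hu : h.sigma e u = u) : u ∈ Submodule.span F {e} := by
  rw [sigma_apply] at hu
  refine Submodule.mem_span_singleton.2 ⟨h.fU e u / h.fU e e, ?_⟩
  have h2 := h.h2
  apply (smul_right_injective U h2)
  show (2 : F) • _ = (2 : F) • u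
  rw [smul_smul, ← mul_div_assoc, two_smul F u]
  linear_combination (norm := abel) hu

variable {h}

/-- A square of an isometry of the first factor gives a member. -/
theorem Gens.sqU [Finite F] (hG : h.Gens M) (hV : 5 ≤ Module.finrank F V) {γ : Module.End F U}
    (hγ : ∀ x y, h.fU (γ x) (γ y) = h.fU x y) : ∃ k ∈ M, ∀ u y, k (h.tp u y) = h.tp (γ (γ u)) y := by
  obtain ⟨k, hk, ek⟩ := h.exists_orthU hγ
  have e : ∀ u y, (k * k) (h.tp u y) = h.tp ((γ * γ) u) y := fun u y => by
    rw [LinearEquiv.mul_apply, ek, ek]; rfl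
  exact ⟨k * k, hG.tensU _ (sq_siegel h.qnd h.h2 hV hk) _ e, e⟩

end TData

end CfsgLib.TensorOO
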