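import Mathlib

/-! Two facts on finite groups: a fixed element under a `p`-group, and pairs of involutions. -/

set_option autoImplicit false
set_option linter.unusedSectionVars false

open scoped Pointwise

namespace CfsgLib.TensorOO

variable {G : Type*} [Group G] [Finite G]

/-- A normalising `p`-group centralises an element of order `p` of a group of order divisible by `p`. -/
theorem exists_centralized_pelt {p : ℕ} [hp : Fact p.Prime] {A K : Subgroup G} (hA : IsPGroup p A)
    (hAK : A ≤ Subgroup.normalizer (K : Set G)) (hd : p ∣ Nat.card K) :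
    ∃ x ∈ K, x ≠ 1 ∧ x ^ p = 1 ∧ ∀ a ∈ A, a * x = x * a := by
  let φ : A →* MulAut K := K.normalizerMonoidHom.comp (Subgroup.inclusion hAK)
  letI : MulAction A (Sylow p K) := MulAction.compHom _ φ
  obtain ⟨S, hS⟩ := hA.nonempty_fixed_point_of_prime_not_dvd_card (Sylow p K) (not_dvd_card_sylow p K)
  have hinv : ∀ (a : A) (x : K), x ∈ (S : Subgroup K) → φ a x ∈ (S : Subgroup K) := fun a x hx => by
    have h1 : φ a • (S : Subgroup K) = (S : Subgroup K) := congrArg Sylow.toSubgroup (hS a)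
    rw [← h1]
    exact Subgroup.smul_mem_pointwise_smul _ _ _ hx
  letI : MulAction A (S : Subgroup K) :=
    { smul := fun a x => ⟨φ a x.1, hinv a x.1 x.2⟩
      one_smul := fun x => Subtype.ext (show φ 1 x.1 = x.1 by simp)
      mul_smul := fun a b x => Subtype.ext (show φ (a * b) x.1 = φ a (φ b x.1) by simp) }
  have hdS : p ∣ Nat.card (S : Subgroup K) := S.dvd_card_of_dvd_card hd
  obtain ⟨x, hx, hx1⟩ := hA.exists_fixed_point_of_prime_dvd_card_of_fixed_point (S : Subgroup K) hdS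
    (a := 1) (fun a => Subtype.ext (show φ a 1 = 1 by simp))
  have hc : ∀ a ∈ A, a * (x : K).1 = (x : K).1 * a := fun a ha => by
    have := congrArg (fun t => ((t : (S : Subgroup K)) : K).1) (hx ⟨a, ha⟩)
    have e : a * (x : K).1 * a⁻¹ = (x : K).1 := this
    calc a * (x : K).1 = a * (x : K).1 * a⁻¹ * a := by group
      _ = _ := by rw [e]
  have hx1' : x ≠ 1 := fun e => hx1 e.symm
  obtain ⟨k, hk⟩ := (IsPGroup.iff_orderOf.1 S.2) x
  have hk0 : k ≠ 0 := fun e => hx1' (orderOf_eq_one_iff.1 (by rw [hk, e, pow_zero]))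
  obtain ⟨m, rfl⟩ := Nat.exists_eq_succ_of_ne_zero hk0
  refine ⟨((x ^ p ^ m : (S : Subgroup K)) : K).1, ((x ^ p ^ m : (S : Subgroup K)) : K).2, fun e => ?_, ?_, fun a ha => ?_⟩
  · have e' : x ^ p ^ m = 1 := Subtype.ext (Subtype.ext e)
    have := Nat.le_of_dvd (pow_pos hp.out.pos _) (hk ▸ orderOf_dvd_of_pow_eq_one e')
    exact absurd this (not_le.2 (Nat.pow_lt_pow_right hp.out.one_lt (Nat.lt_succ_self m)))
  · have e' : (x ^ p ^ m) ^ p = 1 := by rw [← pow_mul, ← pow_succ, ← hk, pow_orderOf_eq_one]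
    have := congrArg (fun t => ((t : (S : Subgroup K)) : K).1) e'
    simpa using this
  · have : Commute a (x : K).1 := hc a ha
    simpa using (this.pow_right (p ^ m)).eq

/-- Two involutions are conjugate or centralise a common involution whose product with the first is
conjugate to one of them. -/
theorem invol_pair (i j : G) (hi : i * i = 1) (hj : j * j = 1) :
    (∃ g ∈ Subgroup.closure {i, j}, g * i * g⁻¹ = j) ∨ ∃ k ∈ Subgroup.closure {i, j}, k ≠ 1 ∧ k * k = 1 ∧
      k * i = i * k ∧ k * j = j * k ∧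
      ((∃ g ∈ Subgroup.closure {i, j}, g * i * g⁻¹ = i * k) ∨
        ∃ g ∈ Subgroup.closure {i, j}, g * j * g⁻¹ = i * k) := by
  set d := i * j with hd
  have hdm : d ∈ Subgroup.closure ({i, j} : Set G) :=
    mul_mem (Subgroup.subset_closure (by simp)) (Subgroup.subset_closure (by simp))
  have hi' : i⁻¹ = i := inv_eq_of_mul_eq_one_left hi
  have hj' : j⁻¹ = j := inv_eq_of_mul_eq_one_left hj
  have hinv : ∀ n : ℕ, i * d ^ n = d⁻¹ ^ n * i := fun n => by
    have h1 : i * d * i⁻¹ = d⁻¹ := by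
      rw [hd, mul_inv_rev, hi', hj', ← mul_assoc, hi, one_mul]
    rw [← h1, conj_pow, inv_mul_cancel_right]
  have hjd : j = i * d := by rw [hd, ← mul_assoc, hi, one_mul]
  rcases Nat.even_or_odd (orderOf d) with ⟨m, hm⟩ | ⟨m, hm⟩
  · right
    have ho := orderOf_pos d
    have hk1 : d ^ m ≠ 1 := pow_ne_one_of_lt_orderOf (by omega) (by omega)
    have hkk : d ^ m * d ^ m = 1 := by rw [← pow_add, ← hm, pow_orderOf_eq_one]
    have hki : d⁻¹ ^ m = d ^ m := by rw [inv_pow]; exact inv_eq_of_mul_eq_one_left hkk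
    have hci : d ^ m * i = i * d ^ m := by rw [hinv, hki]
    refine ⟨d ^ m, pow_mem hdm m, hk1, hkk, hci, ?_, ?_⟩
    · rw [hjd, ← mul_assoc, hci, mul_assoc, mul_assoc, ← pow_succ, ← pow_succ']
    rcases Nat.even_or_odd m with ⟨l, hl⟩ | ⟨l, hl⟩
    · refine Or.inl ⟨d⁻¹ ^ l, pow_mem (inv_mem hdm) l, ?_⟩
      rw [← hinv, inv_pow, inv_inv, mul_assoc, ← pow_add, ← hl]
    · refine Or.inr ⟨d⁻¹ ^ l, pow_mem (inv_mem hdm) l, ?_⟩
      have e : d⁻¹ ^ l * j = i * d ^ (l + 1) := by
        rw [hjd, ← mul_assoc, ← hinv, mul_assoc, ← pow_succ]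
      rw [e, inv_pow, inv_inv, mul_assoc, ← pow_add]
      congr 2
      omega
  · left
    refine ⟨d ^ m, pow_mem hdm m, ?_⟩
    have e : d ^ m = d⁻¹ ^ (m + 1) := by
      rw [inv_pow]
      refine eq_inv_of_mul_eq_one_left ?_
      rw [← pow_add, show m + (m + 1) = orderOf d by omega, pow_orderOf_eq_one]
    conv_rhs => rw [hjd]
    rw [mul_inv_eq_iff_eq_mul, e, ← hinv, mul_assoc, ← e]
    congr 1
    rw [← pow_succ']

end CfsgLib.TensorOO
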