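import Cfsg.Agent.Lib.OrthMax.TensorOO.Four.Stab
import Cfsg.Agent.Lib.OrthMax.TensorOO.Four.Group
import Cfsg.Agent.Lib.Coprime.Action2

/-! The centraliser of a half turn of the first factor consists of products. -/

set_option autoImplicit false
set_option linter.unusedSectionVars false
set_option linter.unusedVariables false
set_option linter.unusedSimpArgs false

namespace CfsgLib.TensorOO

open QuadraticMap CfsgLib.Geometry CfsgLib.OrthMax
open CfsgLib.TensorSp (In)
open LinearMap (BilinForm)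

variable {F V U W : Type*} [Field F] [Finite F] [AddCommGroup V] [Module F V] [AddCommGroup U] [Module F U]
  [AddCommGroup W] [Module F W]
variable [FiniteDimensional F V] [FiniteDimensional F U] [FiniteDimensional F W]
variable {Q : QuadraticForm F V} {M : Subgroup (V ≃ₗ[F] V)}

/-- The equivalences of a finite space form a finite group. -/
theorem finite_equiv : Finite (V ≃ₗ[F] V) :=
  haveI : Finite V := Module.finite_of_finite F
  Finite.of_injective _ DFunLike.coe_injective

namespace TData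

variable {h : TData Q U W} [Nontrivial U] [Nontrivial W]

/-- An isometry of odd prime order equal to the characteristic fixing an anisotropic vector is trivial. -/
theorem uni_fix (H : h.ThreeU) {p : ℕ} [hp : Fact p.Prime] [CharP F p] {γ : Module.End F U}
    (hγ : ∀ x y, h.fU (γ x) (γ y) = h.fU x y) {e : U} (he : h.fU e e ≠ 0) (hge : γ e = e) (hpow : γ ^ p = 1)
    (u : U) : γ u = u := by
  classical
  have h2 := h.h2
  haveI : CharP (Module.End F U) p := charP_of_injective_algebraMap (algebraMap F _).injective p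
  have hnil : (γ - 1) ^ p = 0 := by rw [sub_pow_char_of_commute p (Commute.one_right γ), hpow, one_pow, sub_self]
  obtain ⟨a, a', hea, hea', haa', haa, ha'a', hdec⟩ := exists_orth3 H he
  have hperp : ∀ n : ℕ, h.fU e (((γ - 1) ^ n : Module.End F U) a) = 0 := fun n => by
    induction n with
    | zero => simpa using hea
    | succ n ih =>
      rw [pow_succ', Module.End.mul_apply, LinearMap.sub_apply, Module.End.one_apply, map_sub, ih, sub_zero]
      conv_lhs => rw [← hge]
      rw [hγ, ih]
  have ha0 : a ≠ 0 := fun e' => haa (by rw [e', map_zero])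
  have hex : ∃ n, ((γ - 1) ^ n : Module.End F U) a = 0 := ⟨p, by rw [hnil]; rfl⟩
  set n := Nat.find hex with hn
  obtain ⟨m, hm⟩ : ∃ m, n = m + 1 := Nat.exists_eq_succ_of_ne_zero fun e' => ha0 (by
    have := Nat.find_spec hex
    rw [← hn, e'] at this
    simpa using this)
  set v := ((γ - 1) ^ m : Module.End F U) a with hv
  have hv0 : v ≠ 0 := Nat.find_min hex (by omega)
  have hgv : γ v = v := by
    have h1 : ((γ - 1) ^ (m + 1) : Module.End F U) a = 0 := by rw [← hm]; exact Nat.find_spec hex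
    rw [pow_succ', Module.End.mul_apply, LinearMap.sub_apply, Module.End.one_apply, sub_eq_zero] at h1
    exact h1
  have hev : h.fU e v = 0 := hperp m
  have hve : h.fU v e = 0 := by rw [h.f_sym, hev]
  have hpodd : ∀ x, γ x = -x → x = 0 := fun x hx => by
    have hp2 : p ≠ 2 := fun e' => h2 (by subst e'; exact_mod_cast CharP.cast_eq_zero F 2)
    have hodd := hp.out.odd_of_ne_two hp2
    have e' : ∀ n : ℕ, (γ ^ n : Module.End F U) x = (-1 : F) ^ n • x := fun n => by
      induction n with
      | zero => simp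
      | succ n ih => rw [pow_succ', Module.End.mul_apply, ih, map_smul, hx, pow_succ, smul_neg, mul_neg_one, neg_smul]
    have := e' p
    rw [hpow, hodd.neg_one_pow, neg_one_smul, Module.End.one_apply] at this
    exact (smul_eq_zero.1 (show (2 : F) • x = 0 by linear_combination (norm := module) this)).resolve_left h2
  by_cases hvv : h.fU v v = 0
  · -- an isotropic fixed vector
    obtain ⟨v₁, hv₁, hvv₁⟩ := h.fN.exists_partner hv0 hvv
    set x := v₁ - (h.fU e v₁ / h.fU e e) • e with hx
    have hex' : h.fU e x = 0 := by simp [hx, div_mul_cancel₀ _ he]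
    have hvx : h.fU v x = 1 := by simp [hx, hvv₁, hve]
    set v' := x - (h.fU x x / 2) • v with hv'
    have k : Frame3 h.fU v v' e := ⟨hvv, by simp [hv', hvv, hvx, h.f_sym x v]; field_simp; ring, by simp [hv', hvv, hvx],
      hve, by simp [hv', hve, h.f_sym x e, hex'], he⟩
    have q1 : h.fU v (γ v') = 1 := by
      have := hγ v v'
      rwa [hgv, k.zz'] at this
    have q2 : h.fU e (γ v') = 0 := by
      have := hγ e v'
      rwa [hge, k.az' h.fN] at this
    have q3 : h.fU (γ v') (γ v') = 0 := by rw [hγ, k.iz']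
    have hdv : γ v' = h.fU v' (γ v') • v + v' := by
      conv_lhs => rw [k.decomp h.fN H.dU (γ v')]
      simp [q1, q2]
    rw [hdv] at q3
    simp [k.iz, k.iz', k.zz', k.z'z h.fN] at q3
    have hz : h.fU v' (γ v') = 0 :=
      (mul_eq_zero.1 (show (2 : F) * h.fU v' (γ v') = 0 by linear_combination q3)).resolve_left h2
    rw [hz, zero_smul, zero_add] at hdv
    rw [k.decomp h.fN H.dU u]
    simp [hgv, hge, hdv]
  · -- an anisotropic one
    -- the third vector of the orthogonal basis
    obtain ⟨x, hex0, hvx, hxx, hspan⟩ : ∃ x, h.fU e x = 0 ∧ h.fU v x = 0 ∧ h.fU x x ≠ 0 ∧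
        ∀ y, y = (h.fU e y / h.fU e e) • e + (h.fU v y / h.fU v v) • v + (h.fU x y / h.fU x x) • x := by
      have hN : NdIn h.fU (⊤ ⊓ LinearMap.ker (h.fU e)) := h.fN.ndIn_inter h.fN.ndIn_top Submodule.mem_top he
      rw [top_inf_eq] at hN
      have hd : Module.finrank F (LinearMap.ker (h.fU e)) + 1 = Module.finrank F U :=
        h.fN.finrank_ker fun e' => he (by rw [e', map_zero])
      have hd2 := Nice.finrank_inter (B := h.fU) (S := LinearMap.ker (h.fU e)) (e := v) hev hvv
      have hdU := H.dU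
      obtain ⟨x, hx, hxx⟩ := h.fN.exists_aniso_nd (h.fN.ndIn_inter hN hev hvv) (by omega)
      have hd3 := Nice.finrank_inter (B := h.fU) (S := LinearMap.ker (h.fU e) ⊓ LinearMap.ker (h.fU v)) (e := x) hx hxx
      refine ⟨x, hx.1, hx.2, hxx, fun y => sub_eq_zero.1 (Submodule.eq_bot_iff _ |>.1 (Submodule.finrank_eq_zero.1
        (show Module.finrank F (LinearMap.ker (h.fU e) ⊓ LinearMap.ker (h.fU v) ⊓ LinearMap.ker (h.fU x) :
          Submodule F U) = 0 by omega)) _ ?_)⟩
      have hex' : h.fU e x = 0 := hx.1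
      have hvx' : h.fU v x = 0 := hx.2
      refine ⟨⟨?_, ?_⟩, ?_⟩ <;>
        simp [hev, hve, hex', hvx', h.f_sym x e, h.f_sym x v, div_mul_cancel₀ _ he, div_mul_cancel₀ _ hvv,
          div_mul_cancel₀ _ hxx]
    have q1 : h.fU e (γ x) = 0 := by
      have := hγ e x
      rwa [hge, hex0] at this
    have q2 : h.fU v (γ x) = 0 := by
      have := hγ v x
      rwa [hgv, hvx] at this
    have hgx : γ x = (h.fU x (γ x) / h.fU x x) • x := by
      conv_lhs => rw [hspan (γ x)]
      simp [q1, q2]
    set c := h.fU x (γ x) / h.fU x x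
    have hc : c * c = 1 := by
      have e0 := hγ x x
      rw [hgx] at e0
      simp at e0
      refine mul_right_cancel₀ hxx ?_
      linear_combination e0
    rcases mul_self_eq_one_iff.1 hc with h' | h'
    · rw [h', one_smul] at hgx
      rw [hspan u]
      simp [hge, hgv, hgx]
    · rw [h', neg_one_smul] at hgx
      exact absurd (hpodd x hgx) fun e' => hxx (by rw [e', map_zero])

/-- A product commuting with a half turn, of order the characteristic, acts on the second factor only. -/
theorem pelem (H : h.ThreeU) {p : ℕ} [Fact p.Prime] [CharP F p] {e : U} (he : h.fU e e ≠ 0)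
    {s y : V ≃ₗ[F] V} (es : ∀ u v, s (h.tp u v) = h.tp (h.sigma e u) v) (hy : y ∈ orth Q) (hP : h.Pure y)
    (hpow : y ^ p = 1) (hc : Commute y s) :
    ∃ S : Module.End F W, ∀ u v, y (h.tp u v) = h.tp u (S v) := by
  obtain ⟨lam, S, ey⟩ := hP
  obtain ⟨b1, b2⟩ := Pure.bij ey
  obtain ⟨v₀, hv₀⟩ := h.gN.exists_aniso
  have hv₀0 : v₀ ≠ 0 := fun e' => hv₀ (by rw [e', map_zero])
  have hS0 : S v₀ ≠ 0 := fun e' => hv₀0 (b2.1 (by rw [e', map_zero]))
  have hfix : h.sigma e (lam e) = lam e := h.tp_injective hS0 (by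
    rw [LinearMap.flip_apply, LinearMap.flip_apply, ← es, ← ey]
    have := LinearEquiv.congr_fun hc.eq (h.tp e v₀)
    rw [LinearEquiv.mul_apply, LinearEquiv.mul_apply, es, h.sigma_self he] at this
    exact this.symm)
  obtain ⟨κ, hκ⟩ := Submodule.mem_span_singleton.1 (h.sigma_fixed hfix)
  have he0 : e ≠ 0 := fun e' => he (by rw [e', map_zero])
  have hκ0 : κ ≠ 0 := fun e' => he0 (b1.1 (by rw [← hκ, e', zero_smul, map_zero]))
  set γ : Module.End F U := κ⁻¹ • lam with hγdef
  set T : Module.End F W := κ • S with hTdef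
  have ey' : ∀ u v, y (h.tp u v) = h.tp (γ u) (T v) := fun u v => by
    rw [ey]
    simp [hγdef, hTdef, smul_smul, mul_inv_cancel₀ hκ0]
  have hge : γ e = e := by rw [hγdef, LinearMap.smul_apply, ← hκ, smul_smul, inv_mul_cancel₀ hκ0, one_smul]
  have hT : ∀ v v', h.gW (T v) (T v') = h.gW v v' := fun v v' => by
    have := orth_polar hy (h.tp e v) (h.tp e v')
    rw [ey', ey', hge, h.pol, h.pol] at this
    exact mul_left_cancel₀ he this
  have hγ : ∀ x x', h.fU (γ x) (γ x') = h.fU x x' := fun x x' => by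
    have := orth_polar hy (h.tp x v₀) (h.tp x' v₀)
    rw [ey', ey', h.pol, h.pol, hT] at this
    exact mul_right_cancel₀ hv₀ this
  have hpowr : ∀ (n : ℕ) u v, (y ^ n) (h.tp u v) = h.tp ((γ ^ n) u) ((T ^ n) v) := fun n => by
    induction n with
    | zero => intro u v; rfl
    | succ n ih =>
      intro u v
      rw [pow_succ', LinearEquiv.mul_apply, ih, ey', pow_succ', pow_succ']
      rfl
  have hge' : ∀ n : ℕ, (γ ^ n) e = e := fun n => by
    induction n with
    | zero => rfl
    | succ n ih => rw [pow_succ', Module.End.mul_apply, ih, hge]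
  have hTp : ∀ v, (T ^ p) v = v := fun v => sub_eq_zero.1 (by
    have e1 := hpowr p e v
    rw [hpow, hge'] at e1
    by_contra hne
    exact h.tp_ne_zero he0 hne (by rw [map_sub, ← e1]; exact sub_self _))
  have hγp : γ ^ p = 1 := LinearMap.ext fun u => h.tp_injective hv₀0 (by
    have e1 := hpowr p u v₀
    rw [hpow, hTp] at e1
    exact e1.symm)
  exact ⟨T, fun u v => by rw [ey', uni_fix H hγ he hge hγp u]⟩

/-- A short element squared. -/
theorem sh_sq {w b : W} (hw : h.gW w w = 0) (hb : h.gW w b = 0) (T : V) :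
    h.sh w b 1 (h.sh w b 1 T) = -(h.gW b b • h.tp (h.c w T) w) := by
  rw [← Module.End.mul_apply, h.sh_mul hw hb hb]
  simp [P_apply]

/-- Powers of a short element. -/
theorem sh_pow {w b : W} (hw : h.gW w w = 0) (hb : h.gW w b = 0) {x : V ≃ₗ[F] V}
    (ex : ∀ T, x T = T + h.sh w b 1 T) (n : ℕ) (T : V) : (x ^ n) T = T + h.sh w ((n : F) • b) 1 T := by
  induction n generalizing T with
  | zero => simp [sh_zero]
  | succ n ih =>
    have := LinearMap.congr_fun (h.sh_add hw (a := b) (b := (n : F) • b) hb (by rw [map_smul, hb, smul_zero]) 1) T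
    rw [pow_succ', LinearEquiv.mul_apply, ih, ex, map_add, show ((n + 1 : ℕ) : F) • b = b + (n : F) • b by push_cast; module]
    rw [← this]
    simp only [LinearMap.add_apply, Module.End.mul_apply]
    abel

variable (hG : h.Gens M) (H : h.Three) (hN : h.NoZ M)

include hG H hN

/-- An element sending a short element into the second factor is a product. -/
theorem pure_of_short_image {g : V ≃ₗ[F] V} (hg : g ∈ M) {w b : W} (hw0 : w ≠ 0) (hw : h.gW w w = 0)
    (hb : h.gW w b = 0) (hbb : h.gW b b ≠ 0) {x : V ≃ₗ[F] V} (ex : ∀ T, x T = T + h.sh w b 1 T)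
    {S : Module.End F W} (eS : ∀ u y, (g * x * g⁻¹) (h.tp u y) = h.tp u (S y)) : h.Pure g := by
  have e1 : ∀ u y, g (h.sh w b 1 (g.symm (h.tp u y))) = h.tp u ((S - 1) y) := fun u y => by
    have e := eS u y
    rw [LinearEquiv.mul_apply, LinearEquiv.mul_apply, show g⁻¹ (h.tp u y) = g.symm (h.tp u y) from rfl, ex, map_add,
      g.apply_symm_apply] at e
    rw [LinearMap.sub_apply, Module.End.one_apply, map_sub, ← e, add_sub_cancel_left]
  set N : Module.End F W := (S - 1) * (S - 1) with hNdef
  have e2 : ∀ u y, h.tp u (N y) = g (-(h.gW b b • h.tp (h.c w (g.symm (h.tp u y))) w)) := fun u y => by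
    rw [hNdef, Module.End.mul_apply, ← e1 u ((S - 1) y), ← e1 u y, g.symm_apply_apply, sh_sq hw hb]
  obtain ⟨y₀, hy₀⟩ : ∃ y, N y ≠ 0 := by
    by_contra hno
    push Not at hno
    obtain ⟨u₀, hu₀⟩ := exists_ne (0 : U)
    obtain ⟨w', hw', hww'⟩ := h.gN.exists_partner hw0 hw
    have e : h.tp.flip w ∘ₗ h.c w ∘ₗ g.symm.toLinearMap = 0 := h.ext_tp fun u y => by
      have e3 := e2 u y
      rw [hno, map_zero] at e3
      have e4 := g.injective (e3.symm.trans (map_zero g).symm)
      rw [neg_eq_zero, smul_eq_zero] at e4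
      simpa using e4.resolve_left hbb
    have := LinearMap.congr_fun e (g (h.tp u₀ w'))
    simp only [LinearMap.comp_apply, LinearEquiv.coe_coe, g.symm_apply_apply, h.c_tp, hww', one_smul,
      LinearMap.flip_apply, LinearMap.zero_apply] at this
    exact h.tp_ne_zero hu₀ hw0 this
  set w₁ := N y₀ with hw₁
  have hle : h.A w₁ ≤ (h.A w).map g.toLinearMap := by
    rintro _ ⟨u, rfl⟩
    rw [LinearMap.flip_apply, hw₁, e2]
    exact Submodule.mem_map_of_mem ((h.A w).neg_mem ((h.A w).smul_mem _ (h.tp_mem_A _ _)))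
  have heq := Submodule.eq_of_le_of_finrank_eq hle (by
    rw [h.finrank_A hy₀, g.finrank_map_eq, h.finrank_A hw0])
  have hmap : ∀ u, g (h.tp u w) ∈ h.A w₁ := fun u => by
    rw [heq]; exact Submodule.mem_map_of_mem (h.tp_mem_A _ _)
  obtain ⟨u, hu⟩ := h.fN.exists_aniso
  have hw₁w₁ : h.gW w₁ w₁ = 0 := by
    have h0 : Q (h.tp u w₁) = 0 := by
      obtain ⟨p, hp⟩ := hle (h.tp_mem_A u w₁)
      rw [← hp.2, LinearEquiv.coe_coe, mem_orth.1 (hG.le hg)]
      obtain ⟨r, hr⟩ := hp.1
      rw [← hr, LinearMap.flip_apply, h.Q_tp_zero r hw]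
    exact (mul_eq_zero.1 (show h.fU u u * h.gW w₁ w₁ = 0 by rw [← h.Q_tp, h0, mul_zero])).resolve_left hu
  exact pure_of_member4 hG H hN hg hw0 hw hy₀ hw₁w₁ hmap

/-- An element keeping a short element and fixing a slice acts on the first factor only. -/
theorem actU_of_comm {k : V ≃ₗ[F] V} (hk : k ∈ M) {e : U} (he : h.fU e e ≠ 0)
    (hfix : ∀ v, k (h.tp e v) = h.tp e v) {w b : W} (hw0 : w ≠ 0) (hw : h.gW w w = 0) (hb : h.gW w b = 0)
    (hbb : h.gW b b ≠ 0) (hc : ∀ T, k (h.sh w b 1 T) = h.sh w b 1 (k T)) :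
    ∃ γ : Module.End F U, ∀ u y, k (h.tp u y) = h.tp (γ u) y := by
  obtain ⟨w', hw', hww'⟩ := h.gN.exists_partner hw0 hw
  have hmap : ∀ u, k (h.tp u w) ∈ h.A w := fun u => by
    have e1 := sh_sq (h := h) hw hb (h.tp u w')
    rw [h.c_tp, hww', one_smul] at e1
    have e2 := congrArg k e1
    rw [hc, hc, sh_sq hw hb, map_neg, map_smul, neg_inj] at e2
    rw [← smul_right_injective V hbb e2]
    exact h.tp_mem_A _ _
  obtain ⟨lam, S, ek⟩ := pure_of_member4 hG H hN hk hw0 hw hw0 hw hmap
  have he0 : e ≠ 0 := fun e' => he (by rw [e', map_zero])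
  obtain ⟨b1, b2⟩ := Pure.bij ek
  obtain ⟨e', he'⟩ := h.fN.exists_one he0
  have hS : ∀ v, v = h.fU e' (lam e) • S v := fun v => sub_eq_zero.1 (by
    by_contra hne
    refine h.tp_ne_zero he0 hne (h.eq_zero_of_c fun x => ?_)
    have e1 := congrArg (h.c x) ((ek e v).symm.trans (hfix v))
    rw [h.c_tp, h.c_tp] at e1
    have e2 := congrArg (h.fU e') e1
    rw [map_smul, map_smul, he', smul_eq_mul, smul_eq_mul, mul_one] at e2
    simp only [map_sub, map_smul, c_tp, smul_smul, ← sub_smul]
    rw [show h.gW x v - h.fU e' (lam e) * h.gW x (S v) = 0 by linear_combination -e2, zero_smul])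
  have hκ : h.fU e' (lam e) ≠ 0 := fun e0 => by
    obtain ⟨v, hv⟩ := exists_ne (0 : W)
    exact hv (by rw [hS v, e0, zero_smul])
  refine ⟨(h.fU e' (lam e))⁻¹ • lam, fun u y => ?_⟩
  rw [ek]
  conv_rhs => rw [hS y]
  rw [LinearMap.smul_apply, map_smul, map_smul, LinearMap.smul_apply, smul_smul, mul_inv_cancel₀ hκ, one_smul]

end TData

end CfsgLib.TensorOO
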