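import Cfsg.Agent.Lib.OrthMax.TensorOO.Four.Basic

/-! Half turns of the first factor belong to the group. -/

set_option autoImplicit false
set_option linter.unusedSectionVars false
set_option linter.unusedVariables false
set_option linter.unusedSimpArgs false

namespace CfsgLib.TensorOO

open QuadraticMap CfsgLib.Geometry CfsgLib.OrthMax
open LinearMap (BilinForm)

variable {F V U W : Type*} [Field F] [Finite F] [AddCommGroup V] [Module F V] [AddCommGroup U] [Module F U]
  [AddCommGroup W] [Module F W]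
variable [FiniteDimensional F V] [FiniteDimensional F U] [FiniteDimensional F W]
variable {Q : QuadraticForm F V} {M : Subgroup (V ≃ₗ[F] V)}

namespace TData

variable {h : TData Q U W}

/-- The reflection of the first factor is the product of four reflections. -/
theorem exists_four_refl (H : h.Three) {a : U} (ha : h.fU a a ≠ 0) :
    ∃ (k : orth Q) (κ : Fˣ), (∀ u y, (k : V ≃ₗ[F] V) (h.tp u y) = h.tp (-h.sigma a u) y) ∧
      orthInvariant h.qnd (reflGroup_eq_orth_of_two_ne h.qnd h.h2) k = (sqHom F κ, 1) ∧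
        ∃ N : F, (κ : F) = h.fU a a * h.fU a a * (h.fU a a * h.fU a a) * N ∧
          ∀ a' : U, h.fU a' a' ≠ 0 → ∃ k' : orth Q, ∃ κ' : Fˣ,
            (∀ u y, (k' : V ≃ₗ[F] V) (h.tp u y) = h.tp (-h.sigma a' u) y) ∧
              orthInvariant h.qnd (reflGroup_eq_orth_of_two_ne h.qnd h.h2) k' = (sqHom F κ', 1) ∧
                (κ' : F) = h.fU a' a' * h.fU a' a' * (h.fU a' a' * h.fU a' a') * N := by
  have h2 := h.h2
  obtain ⟨w, -, hw0, hw⟩ := Nice.exists_iso_in h.gW (⊤ : Submodule F W) (by rw [finrank_top, H.dW]; omega)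
  obtain ⟨w', b, c, fr⟩ := h.gN.exists_frame4 H.dW hw0 hw
  have k' := fr.toFrame3
  set p := w + w' with hp
  set m := w - w' with hm
  have gp : h.gW p p = 2 := by simp [hp, fr.iz, fr.iz', fr.zz', k'.z'z h.gN]; ring
  have gm : h.gW m m = -2 := by simp [hm, fr.iz, fr.iz', fr.zz', k'.z'z h.gN]; ring
  have hW : ∀ y : W, y = (h.gW p y / h.gW p p) • p + (h.gW m y / h.gW m m) • m + (h.gW b y / h.gW b b) • b +
      (h.gW c y / h.gW c c) • c := fun y => by
    conv_lhs => rw [fr.decomp h.gN H.dW y]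
    rw [gp, gm]
    simp only [hp, hm, map_add, map_sub, LinearMap.add_apply, LinearMap.sub_apply]
    match_scalars <;> field_simp <;> ring
  have main : ∀ a : U, h.fU a a ≠ 0 → ∃ (k : orth Q) (κ : Fˣ),
      (∀ u y, (k : V ≃ₗ[F] V) (h.tp u y) = h.tp (-h.sigma a u) y) ∧
      orthInvariant h.qnd (reflGroup_eq_orth_of_two_ne h.qnd h.h2) k = (sqHom F κ, 1) ∧
      (κ : F) = h.fU a a * h.fU a a * (h.fU a a * h.fU a a) * (-(4 * h.gW b b * h.gW c c) / 16) := by
    intro a ha
    have hQ : ∀ v, Q (h.tp a v) = h.fU a a * h.gW v v / 2 := fun v => by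
      rw [← h.Q_tp, mul_div_cancel_left₀ _ h2]
    have hne : ∀ v, h.gW v v ≠ 0 → Q (h.tp a v) ≠ 0 := fun v hv => by
      rw [hQ]; exact div_ne_zero (mul_ne_zero ha hv) h2
    have n1 := hne p (by rw [gp]; exact h2)
    have n2 := hne m (by rw [gm]; exact neg_ne_zero.2 h2)
    have n3 := hne b fr.aa
    have n4 := hne c fr.cc
    have hr : ∀ (v : W) (nv : Q (h.tp a v) ≠ 0) u y, refl Q _ nv (h.tp u y) =
        h.tp u y - (2 * h.fU a u * h.gW v y / (h.fU a a * h.gW v v)) • h.tp a v := fun v nv u y => by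
      rw [refl_apply, h.pol, hQ, h.g_sym y v, h.f_sym u a]
      congr 2
      field_simp
    refine ⟨oRefl Q _ n1 * oRefl Q _ n2 * oRefl Q _ n3 * oRefl Q _ n4,
      Units.mk0 _ n1 * Units.mk0 _ n2 * Units.mk0 _ n3 * Units.mk0 _ n4, fun u y => ?_, ?_, ?_⟩
    · have pm : h.gW p m = 0 := by simp [hp, hm, fr.iz, fr.iz', fr.zz', k'.z'z h.gN]
      have pb : h.gW p b = 0 := by simp [hp, fr.za, fr.z'a]
      have pc : h.gW p c = 0 := by simp [hp, fr.wc, fr.w'c]
      have mb : h.gW m b = 0 := by simp [hm, fr.za, fr.z'a]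
      have mc : h.gW m c = 0 := by simp [hm, fr.wc, fr.w'c]
      have bc := fr.bc
      show refl Q _ n1 (refl Q _ n2 (refl Q _ n3 (refl Q _ n4 (h.tp u y)))) = _
      simp only [map_sub, map_smul, hr, h.g_sym c b, h.g_sym c m, h.g_sym c p, h.g_sym b m, h.g_sym b p,
        h.g_sym m p, pm, pb, pc, mb, mc, bc, mul_zero, zero_div, zero_smul, sub_zero]
      conv_rhs => rw [hW y]
      nth_rewrite 1 [hW y]
      simp only [sigma_apply, map_add, map_sub, map_neg, map_smul, LinearMap.sub_apply, LinearMap.neg_apply,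
        LinearMap.smul_apply]
      match_scalars <;> field_simp <;> ring
    · rw [map_mul, map_mul, map_mul, orthInvariant_oRefl, orthInvariant_oRefl, orthInvariant_oRefl,
        orthInvariant_oRefl, map_mul, map_mul, map_mul]
      exact Prod.ext rfl (show Multiplicative.ofAdd (1 : ZMod 2) * Multiplicative.ofAdd 1 * Multiplicative.ofAdd 1 *
        Multiplicative.ofAdd 1 = 1 by decide)
    · have h16 : (16 : F) ≠ 0 := by
        rw [show (16 : F) = 2 ^ 4 by norm_num]
        exact pow_ne_zero _ h2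
      simp only [Units.val_mul, Units.val_mk0, hQ, gp, gm]
      field_simp
      ring
  obtain ⟨k, κ, e1, e2, e3⟩ := main a ha
  exact ⟨k, κ, e1, e2, _, e3, main⟩

/-- Half turns of the first factor are members. -/
theorem Gens.sigma_mem (hG : h.Gens M) (H : h.Three) (hV : 5 ≤ Module.finrank F V) {e : U}
    (he : h.fU e e ≠ 0) : ∃ k ∈ M, ∀ u y, k (h.tp u y) = h.tp (h.sigma e u) y := by
  have hd : Module.finrank F (LinearMap.ker (h.fU e)) + 1 = Module.finrank F U :=
    h.fN.finrank_ker fun e' => he (by rw [e', map_zero])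
  have hdU := H.dU
  have hN : NdIn h.fU (⊤ ⊓ LinearMap.ker (h.fU e)) := h.fN.ndIn_inter h.fN.ndIn_top Submodule.mem_top he
  rw [top_inf_eq] at hN
  obtain ⟨a, ha, haa⟩ := h.fN.exists_aniso_nd hN (by omega)
  have hd2 := Nice.finrank_inter ha haa
  obtain ⟨a', ha', ha'a'⟩ := h.fN.exists_aniso_nd (h.fN.ndIn_inter hN ha haa) (by omega)
  have hea : h.fU e a = 0 := ha
  have hea' : h.fU e a' = 0 := ha'.1
  have haa' : h.fU a a' = 0 := ha'.2
  obtain ⟨k, κ, ek, ik, N, eκ, hall⟩ := exists_four_refl H haa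
  obtain ⟨k', κ', ek', ik', eκ'⟩ := hall a' ha'a'
  have hd3 := Nice.finrank_inter (B := h.fU) (S := LinearMap.ker (h.fU e) ⊓ LinearMap.ker (h.fU a)) (e := a') ha' ha'a'
  have hU : ∀ u, u = (h.fU e u / h.fU e e) • e + (h.fU a u / h.fU a a) • a + (h.fU a' u / h.fU a' a') • a' :=
    fun u => by
      refine sub_eq_zero.1 (Submodule.eq_bot_iff _ |>.1 (Submodule.finrank_eq_zero.1
        (show Module.finrank F (LinearMap.ker (h.fU e) ⊓ LinearMap.ker (h.fU a) ⊓ LinearMap.ker (h.fU a') :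
          Submodule F U) = 0 by omega)) _ ?_)
      refine ⟨⟨?_, ?_⟩, ?_⟩ <;>
        simp [hea, hea', haa', h.f_sym a e, h.f_sym a' e, h.f_sym a' a, div_mul_cancel₀ _ he,
          div_mul_cancel₀ _ haa, div_mul_cancel₀ _ ha'a']
  have eg : ∀ u y, (k * k' : orth Q).1 (h.tp u y) = h.tp (h.sigma e u) y := fun u y => by
    show (k : V ≃ₗ[F] V) ((k' : V ≃ₗ[F] V) _) = _
    rw [ek', ek]
    congr 1
    congr 1
    have h2 := h.h2
    simp only [sigma_apply, map_neg, map_sub, map_smul, haa', smul_eq_mul, mul_zero, sub_zero]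
    conv_lhs => rw [hU u]
    conv_rhs => rw [hU u]
    simp only [map_add, map_smul, hea, hea', haa', h.f_sym a e, h.f_sym a' e, h.f_sym a' a, smul_eq_mul, mul_zero,
      zero_add, add_zero, div_mul_cancel₀ _ he, div_mul_cancel₀ _ haa, div_mul_cancel₀ _ ha'a']
    match_scalars <;> field_simp <;> ring
  refine ⟨(k * k' : orth Q).1, hG.tensU _ ?_ (h.sigma e) eg, eg⟩
  have hR := reflGroup_eq_orth_of_two_ne h.qnd h.h2
  refine (mem_commutator_iff_siegelGroup h.qnd hV _).1 ?_
  rw [← ker_orthInvariant h.qnd (by omega) h.h2 hR, MonoidHom.mem_ker, map_mul, ik, ik']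
  refine Prod.ext ?_ (one_mul 1)
  show sqHom F κ * sqHom F κ' = 1
  rw [← map_mul, sqHom_eq_one_iff, Units.val_mul, eκ, eκ']
  exact ⟨h.fU a a * h.fU a a * (h.fU a' a' * h.fU a' a') * N, by ring⟩

end TData

end CfsgLib.TensorOO
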