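import Cfsg.Agent.Lib.OrthMax.TensorOO.Four.CentSigma

/-! Product involutions with a fixed space of dimension four are half turns of the first factor. -/

set_option autoImplicit false
set_option linter.unusedSectionVars false
set_option linter.unusedVariables false
set_option linter.unusedSimpArgs false

namespace CfsgLib.TensorOO

open QuadraticMap CfsgLib.Geometry CfsgLib.OrthMax
open CfsgLib.TensorSp (In)
open LinearMap (BilinForm)

variable {F V U W : Type*} [Field F] [Finite F] [AddCommGroup V] [Module F V] [AddCommGroup U] [Module F U]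
  [AddCommGroup W] [Module F W]
variable [FiniteDimensional F V] [FiniteDimensional F U] [FiniteDimensional F W]
variable {Q : QuadraticForm F V} {M : Subgroup (V ≃ₗ[F] V)}

/-- The fixed space. -/
def fixSp (k : V ≃ₗ[F] V) : Submodule F V := LinearMap.ker (k.toLinearMap - 1)

theorem mem_fixSp {k : V ≃ₗ[F] V} {T : V} : T ∈ fixSp k ↔ k T = T := by
  simp [fixSp, sub_eq_zero]

theorem finrank_fixSp_conj (g k : V ≃ₗ[F] V) :
    Module.finrank F (fixSp (g * k * g⁻¹)) = Module.finrank F (fixSp k) := by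
  have e : fixSp (g * k * g⁻¹) = (fixSp k).map g.toLinearMap := by
    ext T
    rw [mem_fixSp, Submodule.mem_map_equiv, mem_fixSp]
    show g (k (g.symm T)) = T ↔ _
    rw [← g.eq_symm_apply]
  rw [e, g.finrank_map_eq]

namespace TData

variable {h : TData Q U W} [Nontrivial U] [Nontrivial W]

/-- The eigenspaces of an involution. -/
theorem isCompl_eig {X : Type*} [AddCommGroup X] [Module F X] (h2 : (2 : F) ≠ 0) {f : Module.End F X}
    (hf : ∀ x, f (f x) = x) : IsCompl (LinearMap.ker (f - 1)) (LinearMap.ker (f + 1)) := by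
  refine ⟨Submodule.disjoint_def.2 fun x h1 h2' => ?_, codisjoint_iff.2 (eq_top_iff.2 fun x _ => ?_)⟩
  · simp only [LinearMap.mem_ker, LinearMap.sub_apply, LinearMap.add_apply, Module.End.one_apply] at h1 h2'
    exact (smul_eq_zero.1 (show (2 : F) • x = 0 by linear_combination (norm := module) h2' - h1)).resolve_left h2
  · refine Submodule.mem_sup.2 ⟨(2 : F)⁻¹ • (x + f x), ?_, (2 : F)⁻¹ • (x - f x), ?_, ?_⟩
    · simp only [LinearMap.mem_ker, LinearMap.sub_apply, Module.End.one_apply, map_smul, map_add, hf]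
      module
    · simp only [LinearMap.mem_ker, LinearMap.add_apply, Module.End.one_apply, map_smul, map_sub, hf]
      module
    · match_scalars <;> field_simp <;> ring

/-- The dimension of the fixed space of a product of involutions. -/
theorem finrank_fix_prod {k : V ≃ₗ[F] V} {lam : Module.End F U} {S : Module.End F W}
    (ek : ∀ u y, k (h.tp u y) = h.tp (lam u) (S y)) (hS : ∀ y, S (S y) = y) :
    Module.finrank F (fixSp k) =
      Module.finrank F (LinearMap.ker (S - 1)) * Module.finrank F (LinearMap.ker (lam - 1)) +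
      Module.finrank F (LinearMap.ker (S + 1)) * Module.finrank F (LinearMap.ker (lam + 1)) := by
  classical
  have hc := isCompl_eig h.h2 hS
  let bp := Module.finBasis F (LinearMap.ker (S - 1))
  let bm := Module.finBasis F (LinearMap.ker (S + 1))
  let bb := (bp.prod bm).map (Submodule.prodEquivOfIsCompl _ _ hc)
  let d := h.gW.dualBasis h.gN.nd bb
  let ε : Fin (Module.finrank F (LinearMap.ker (S - 1))) ⊕ Fin (Module.finrank F (LinearMap.ker (S + 1))) → F :=
    Sum.elim (fun _ => 1) (fun _ => -1)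
  have hbb : ∀ i, S (bb i) = ε i • bb i := by
    rintro (i | i)
    · have h1 : (S - 1) (bp i) = 0 := (bp i).2
      simp only [LinearMap.sub_apply, Module.End.one_apply, sub_eq_zero] at h1
      simp [bb, ε, h1]
    · have h1 : (S + 1) (bm i) = 0 := (bm i).2
      simp only [LinearMap.add_apply, Module.End.one_apply, add_eq_zero_iff_eq_neg] at h1
      simp [bb, ε, h1]
  have hd : ∀ i j, h.gW (d i) (bb j) = if j = i then 1 else 0 := fun i j => by
    simp [d, LinearMap.BilinForm.apply_dualBasis_left]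
  let K : Fin (Module.finrank F (LinearMap.ker (S - 1))) ⊕ Fin (Module.finrank F (LinearMap.ker (S + 1))) →
      Submodule F U := fun i => LinearMap.ker (ε i • lam - 1)
  let Φ : (∀ i, K i) →ₗ[F] V := ∑ i, h.tp.flip (bb i) ∘ₗ (K i).subtype ∘ₗ LinearMap.proj i
  have hΦ : ∀ p, Φ p = ∑ i, h.tp (p i : U) (bb i) := fun p => by simp [Φ]
  have hcd : ∀ (p : _ → U) i, h.c (d i) (∑ j, h.tp (p j) (bb j)) = p i := fun p i => by
    rw [map_sum, Finset.sum_eq_single i]
    · simp [hd]
    · intro j _ hji; simp [hd, hji]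
    · simp
  have hinj : Function.Injective Φ := (injective_iff_map_eq_zero _).2 fun p hp => funext fun i => Subtype.ext (by
    have := hcd (fun j => (p j : U)) i
    rw [← hΦ, hp, map_zero] at this
    exact this.symm)
  have hexp : ∀ T, T = ∑ j, h.tp (h.c (d j) T) (bb j) := fun T => by
    refine sub_eq_zero.1 (h.eq_zero_of_c fun x => ?_)
    have hx : x = ∑ i, bb.repr x i • bb i := (bb.sum_repr x).symm
    let L : W →ₗ[F] U :=
      LinearMap.mk (AddHom.mk (fun x => h.c x (T - ∑ j, h.tp (h.c (d j) T) (bb j))) (fun a b => by simp)) (fun a b => by simp)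
    show L x = 0
    have hd' := (h.gW.dualBasis h.gN.nd bb).sum_repr x
    rw [← hd', map_sum]
    refine Finset.sum_eq_zero fun i _ => ?_
    rw [map_smul]
    show _ • h.c (d i) (T - ∑ j, h.tp (h.c (d j) T) (bb j)) = 0
    rw [map_sub, hcd (fun j => h.c (d j) T), sub_self, smul_zero]
  have hrange : LinearMap.range Φ = fixSp k := by
    ext T
    constructor
    · rintro ⟨p, rfl⟩
      rw [mem_fixSp, hΦ, map_sum]
      refine Finset.sum_congr rfl fun i _ => ?_
      have h1 : (ε i • lam - 1) (p i : U) = 0 := (p i).2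
      rw [LinearMap.sub_apply, Module.End.one_apply, sub_eq_zero, LinearMap.smul_apply] at h1
      rw [ek, hbb, map_smul]
      conv_rhs => rw [← h1, map_smul, LinearMap.smul_apply]
    · intro hT
      rw [mem_fixSp] at hT
      have hmem : ∀ i, h.c (d i) T ∈ K i := fun i => by
        simp only [K, LinearMap.mem_ker, LinearMap.sub_apply, Module.End.one_apply, LinearMap.smul_apply, sub_eq_zero]
        have e1 : T = ∑ j, h.tp (ε j • lam (h.c (d j) T)) (bb j) := by
          conv_lhs => rw [← hT, hexp T, map_sum]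
          refine Finset.sum_congr rfl fun j _ => ?_
          rw [ek, hbb, map_smul, map_smul, LinearMap.smul_apply]
        conv_rhs => rw [e1, hcd (fun j => ε j • lam (h.c (d j) T))]
      exact ⟨fun i => ⟨_, hmem i⟩, by rw [hΦ]; exact (hexp T).symm⟩
  rw [← hrange, LinearMap.finrank_range_of_inj hinj, Module.finrank_pi_fintype, Fintype.sum_sum_type]
  have e1 : ∀ i, K (Sum.inl i) = LinearMap.ker (lam - 1) := fun i => by simp [K, ε]
  have e2 : ∀ i, K (Sum.inr i) = LinearMap.ker (lam + 1) := fun i => by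
    simp only [K, ε, Sum.elim_inr]
    ext u
    simp [sub_eq_zero, neg_eq_iff_add_eq_zero]
  show (∑ i, Module.finrank F (K (Sum.inl i))) + ∑ i, Module.finrank F (K (Sum.inr i)) = _
  have s1 : ∀ i, Module.finrank F (K (Sum.inl i)) = Module.finrank F (LinearMap.ker (lam - 1)) := fun i => by rw [e1]
  have s2 : ∀ i, Module.finrank F (K (Sum.inr i)) = Module.finrank F (LinearMap.ker (lam + 1)) := fun i => by rw [e2]
  rw [Finset.sum_congr rfl fun i _ => s1 i, Finset.sum_congr rfl fun i _ => s2 i,
    Finset.sum_const, Finset.sum_const, Finset.card_univ, Finset.card_univ, Fintype.card_fin, Fintype.card_fin,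
    smul_eq_mul, smul_eq_mul]

/-- An involutive isometry with a single fixed line is a half turn. -/
theorem sigma_of_fix {γ : Module.End F U} (hγ : ∀ x y, h.fU (γ x) (γ y) = h.fU x y) (hγ2 : ∀ x, γ (γ x) = x)
    (hd : Module.finrank F (LinearMap.ker (γ - 1)) = 1) :
    ∃ e, h.fU e e ≠ 0 ∧ ∀ u, γ u = h.sigma e u := by
  have h2 := h.h2
  obtain ⟨⟨e, he⟩, he0, hspan⟩ := finrank_eq_one_iff'.1 hd
  have he' : γ e = e := by simpa [sub_eq_zero] using he
  have he0' : e ≠ 0 := fun e1 => he0 (Subtype.ext e1)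
  have key : ∀ u, ∃ κ : F, u + γ u = κ • e ∧ 2 * h.fU e u = κ * h.fU e e := fun u => by
    obtain ⟨κ, hκ⟩ := hspan ⟨u + γ u, by simp [map_add, hγ2, add_comm]⟩
    have hκ' : κ • e = u + γ u := congrArg Subtype.val hκ
    refine ⟨κ, hκ'.symm, ?_⟩
    have e1 := congrArg (h.fU e) hκ'
    rw [map_smul, map_add, smul_eq_mul] at e1
    have e2 : h.fU e (γ u) = h.fU e u := by
      have := hγ e u
      rwa [he'] at this
    linear_combination -e1 - e2
  have hee : h.fU e e ≠ 0 := fun hee => he0' (h.fN.nd.1 e fun u => by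
    obtain ⟨κ, -, hκ⟩ := key u
    rw [hee, mul_zero] at hκ
    exact (mul_eq_zero.1 hκ).resolve_left h2)
  refine ⟨e, hee, fun u => ?_⟩
  obtain ⟨κ, hκ, hκ2⟩ := key u
  rw [sigma_apply, hκ2, mul_div_assoc, div_self hee, mul_one, ← hκ, add_sub_cancel_left]

/-- A half turn fixes a slice. -/
theorem finrank_fix_sigma (H : h.Three) {e : U} (he : h.fU e e ≠ 0) {s : V ≃ₗ[F] V}
    (es : ∀ u y, s (h.tp u y) = h.tp (h.sigma e u) y) : Module.finrank F (fixSp s) = 4 := by
  rw [finrank_fix_prod (h := h) (S := 1) es fun y => rfl]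
  have h1 : LinearMap.ker (h.sigma e - 1) = Submodule.span F {e} := by
    ext u
    simp only [LinearMap.mem_ker, LinearMap.sub_apply, Module.End.one_apply, sub_eq_zero]
    refine ⟨fun hu => h.sigma_fixed hu, fun hu => ?_⟩
    obtain ⟨c, rfl⟩ := Submodule.mem_span_singleton.1 hu
    rw [map_smul, h.sigma_self he]
  have h3 : LinearMap.ker ((1 : Module.End F W) + 1) = ⊥ := by
    ext y
    simp [← two_smul F y, h.h2]
  rw [h1, h3, sub_self, LinearMap.ker_zero, finrank_top, finrank_bot, H.dW,
    finrank_span_singleton (fun e' => he (by rw [e', map_zero]))]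
  ring

/-- A product involution with a fixed space of dimension four is a half turn. -/
theorem classify (H : h.Three) {k : V ≃ₗ[F] V} (hk : k ∈ orth Q) (hP : h.Pure k) (hk2 : k * k = 1)
    (hfix : Module.finrank F (fixSp k) = 4) :
    ∃ e, h.fU e e ≠ 0 ∧ ∀ u y, k (h.tp u y) = h.tp (h.sigma e u) y := by
  obtain ⟨lam, S, ek⟩ := hP
  obtain ⟨b1, b2⟩ := Pure.bij ek
  have h2 := h.h2
  have hkk : ∀ u y, h.tp (lam (lam u)) (S (S y)) = h.tp u y := fun u y => by
    rw [← ek, ← ek, ← LinearEquiv.mul_apply, hk2]; rfl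
  obtain ⟨u₀, hu₀⟩ := exists_ne (0 : U)
  obtain ⟨y₀, hy₀⟩ := exists_ne (0 : W)
  have hy₂ : S (S y₀) ≠ 0 := fun e' => hy₀ (b2.1 (b2.1 (by rw [e', map_zero, map_zero])))
  obtain ⟨d, hd⟩ := h.gN.exists_one hy₂
  set κ := h.gW d y₀
  have hl2 : ∀ u, lam (lam u) = κ • u := fun u => by
    have := congrArg (h.c d) (hkk u y₀)
    rwa [h.c_tp, h.c_tp, hd, one_smul] at this
  have hκ0 : κ ≠ 0 := fun e' => hu₀ (b1.1 (b1.1 (by rw [hl2, e', zero_smul, map_zero, map_zero])))
  have hdet : LinearMap.det lam * LinearMap.det lam = κ * κ * κ := by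
    rw [← map_mul, show lam * lam = κ • 1 from LinearMap.ext hl2, LinearMap.det_smul, map_one, mul_one, H.dU]
    ring
  set r := LinearMap.det lam / κ with hr
  have hr2 : r * r = κ := by rw [hr]; field_simp; linear_combination hdet
  have hr0 : r ≠ 0 := fun e' => hκ0 (by rw [← hr2, e', zero_mul])
  set γ : Module.End F U := r⁻¹ • lam with hγdef
  set T : Module.End F W := r • S with hTdef
  have ek' : ∀ u y, k (h.tp u y) = h.tp (γ u) (T y) := fun u y => by
    rw [ek]
    simp [hγdef, hTdef, smul_smul, mul_inv_cancel₀ hr0]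
  have hγ2 : ∀ u, γ (γ u) = u := fun u => by
    simp only [hγdef, LinearMap.smul_apply, map_smul, hl2, smul_smul]
    rw [show r⁻¹ * (r⁻¹ * κ) = 1 by rw [← hr2]; field_simp, one_smul]
  have hT2 : ∀ y, T (T y) = y := fun y => sub_eq_zero.1 (by
    by_contra hne
    refine h.tp_ne_zero hu₀ hne ?_
    have : h.tp (γ (γ u₀)) (T (T y)) = h.tp u₀ y := by
      rw [← ek', ← ek', ← LinearEquiv.mul_apply, hk2]; rfl
    rw [hγ2] at this
    rw [map_sub, this, sub_self])
  have hc := finrank_fix_prod (h := h) ek' hT2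
  rw [hfix] at hc
  have c1 := Submodule.finrank_add_eq_of_isCompl (isCompl_eig h2 hγ2)
  have c2 := Submodule.finrank_add_eq_of_isCompl (isCompl_eig h2 hT2)
  rw [H.dU] at c1
  rw [H.dW] at c2
  set a := Module.finrank F (LinearMap.ker (γ - 1))
  set b := Module.finrank F (LinearMap.ker (T - 1))
  have hcases : (b = 4 ∧ a = 1) ∨ (b = 0 ∧ a = 2) := by
    have ha' : Module.finrank F (LinearMap.ker (γ + 1)) = 3 - a := by omega
    have hb' : Module.finrank F (LinearMap.ker (T + 1)) = 4 - b := by omega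
    rw [ha', hb'] at hc
    have hb4 : b ≤ 4 := by omega
    have ha3 : a ≤ 3 := by omega
    interval_cases b <;> interval_cases a <;> omega
  obtain ⟨η, eη, hη2, hηd⟩ : ∃ η : Module.End F U, (∀ u y, k (h.tp u y) = h.tp (η u) y) ∧ (∀ u, η (η u) = u) ∧
      Module.finrank F (LinearMap.ker (η - 1)) = 1 := by
    rcases hcases with ⟨hb, ha⟩ | ⟨hb, ha⟩
    · refine ⟨γ, fun u y => ?_, hγ2, ha⟩
      have htop : LinearMap.ker (T - 1) = ⊤ := Submodule.eq_top_of_finrank_eq (by rw [H.dW]; exact hb)
      have : (T - 1) y = 0 := LinearMap.mem_ker.1 (htop ▸ Submodule.mem_top)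
      rw [LinearMap.sub_apply, Module.End.one_apply, sub_eq_zero] at this
      rw [ek', this]
    · refine ⟨-γ, fun u y => ?_, fun u => by simp [hγ2], ?_⟩
      · have htop : LinearMap.ker (T + 1) = ⊤ := Submodule.eq_top_of_finrank_eq (by rw [H.dW]; omega)
        have : (T + 1) y = 0 := LinearMap.mem_ker.1 (htop ▸ Submodule.mem_top)
        rw [LinearMap.add_apply, Module.End.one_apply, add_eq_zero_iff_eq_neg] at this
        rw [ek', this]
        simp
      · rw [show -γ - 1 = -(γ + 1) by abel]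
        have : LinearMap.ker (-(γ + 1)) = LinearMap.ker (γ + 1) := by ext u; simp only [LinearMap.mem_ker, LinearMap.neg_apply, neg_eq_zero]
        rw [this]
        omega
  obtain ⟨v, hv⟩ := h.gN.exists_aniso
  have hη : ∀ x y, h.fU (η x) (η y) = h.fU x y := fun x y => by
    have := orth_polar hk (h.tp x v) (h.tp y v)
    rw [eη, eη, h.pol, h.pol] at this
    exact mul_right_cancel₀ hv this
  obtain ⟨e, he, heη⟩ := sigma_of_fix hη hη2 hηd
  exact ⟨e, he, fun u y => by rw [eη, heη]⟩

end TData

end CfsgLib.TensorOO
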