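import Cfsg.Agent.Lib.OrthMax.TensorOO.Four.Half

/-! A root element inside the centre of the radical gives everything. -/

set_option autoImplicit false
set_option linter.unusedSectionVars false
set_option linter.unusedVariables false
set_option linter.unusedSimpArgs false

namespace CfsgLib.TensorOO

open QuadraticMap CfsgLib.Geometry CfsgLib.OrthMax
open CfsgLib.TensorSp (In)
open LinearMap (BilinForm)

variable {F V U W : Type*} [Field F] [Finite F] [AddCommGroup V] [Module F V] [AddCommGroup U] [Module F U]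
  [AddCommGroup W] [Module F W]
variable [FiniteDimensional F V] [FiniteDimensional F U] [FiniteDimensional F W]
variable {Q : QuadraticForm F V} {M : Subgroup (V ≃ₗ[F] V)}

namespace TData

/-- The skew endomorphism of two vectors. -/
def wedge (h : TData Q U W) (x y : U) : Module.End F U := h.rk x y - h.rk y x

variable {h : TData Q U W}

theorem wedge_apply (x y u : U) : h.wedge x y u = h.fU y u • x - h.fU x u • y := rfl

theorem wedge_conj {γ : Module.End F U} (x y : U) : γ * h.wedge x y * h.adj γ = h.wedge (γ x) (γ y) :=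
  LinearMap.ext fun u => by
    simp [wedge_apply, Module.End.mul_apply, h.adj_spec', map_sub, map_smul]

/-- An orthogonal basis through an anisotropic vector. -/
theorem exists_orth3 (H : h.ThreeU) {e : U} (he : h.fU e e ≠ 0) :
    ∃ a a', h.fU e a = 0 ∧ h.fU e a' = 0 ∧ h.fU a a' = 0 ∧ h.fU a a ≠ 0 ∧ h.fU a' a' ≠ 0 ∧
      ∀ u, u = (h.fU e u / h.fU e e) • e + (h.fU a u / h.fU a a) • a + (h.fU a' u / h.fU a' a') • a' := by
  have hd : Module.finrank F (LinearMap.ker (h.fU e)) + 1 = Module.finrank F U :=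
    h.fN.finrank_ker fun e' => he (by rw [e', map_zero])
  have hdU := H.dU
  have hN : NdIn h.fU (⊤ ⊓ LinearMap.ker (h.fU e)) := h.fN.ndIn_inter h.fN.ndIn_top Submodule.mem_top he
  rw [top_inf_eq] at hN
  obtain ⟨a, ha, haa⟩ := h.fN.exists_aniso_nd hN (by omega)
  have hd2 := Nice.finrank_inter ha haa
  obtain ⟨a', ha', ha'a'⟩ := h.fN.exists_aniso_nd (h.fN.ndIn_inter hN ha haa) (by omega)
  have hea : h.fU e a = 0 := ha
  have hea' : h.fU e a' = 0 := ha'.1
  have haa' : h.fU a a' = 0 := ha'.2
  refine ⟨a, a', hea, hea', haa', haa, ha'a', fun u => ?_⟩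
  have hd3 := Nice.finrank_inter (B := h.fU) (S := LinearMap.ker (h.fU e) ⊓ LinearMap.ker (h.fU a)) (e := a') ha' ha'a'
  refine sub_eq_zero.1 (Submodule.eq_bot_iff _ |>.1 (Submodule.finrank_eq_zero.1
    (show Module.finrank F (LinearMap.ker (h.fU e) ⊓ LinearMap.ker (h.fU a) ⊓ LinearMap.ker (h.fU a') :
      Submodule F U) = 0 by omega)) _ ?_)
  refine ⟨⟨?_, ?_⟩, ?_⟩ <;>
    simp [hea, hea', haa', h.f_sym a e, h.f_sym a' e, h.f_sym a' a, div_mul_cancel₀ _ he,
      div_mul_cancel₀ _ haa, div_mul_cancel₀ _ ha'a']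

theorem P_sq {w : W} (hw : h.gW w w = 0) (D E : Module.End F U) : h.P w w D * h.P w w E = 0 := by
  rw [P_mul, hw, zero_smul]

/-- All multiples of a skew element at `w` are in the group. -/
def ZIn (h : TData Q U W) (M : Subgroup (V ≃ₗ[F] V)) (w : W) (G : Module.End F U) : Prop :=
  ∀ s : F, In M (h.P w w (s • G))

theorem ZIn.add {w : W} (hw : h.gW w w = 0) {G G' : Module.End F U} (h1 : h.ZIn M w G) (h2 : h.ZIn M w G') :
    h.ZIn M w (G + G') := fun s => by
  have := (h1 s).add (h2 s) (P_sq hw _ _)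
  rwa [← P_add, ← smul_add] at this

theorem ZIn.smul {w : W} {G : Module.End F U} (h1 : h.ZIn M w G) (c : F) : h.ZIn M w (c • G) := fun s => by
  rw [smul_smul]; exact h1 _

theorem ZIn.of_smul {w : W} {G : Module.End F U} {c : F} (hc : c ≠ 0) (h1 : h.ZIn M w (c • G)) : h.ZIn M w G := by
  have := h1.smul c⁻¹
  rwa [smul_smul, inv_mul_cancel₀ hc, one_smul] at this

variable [Nontrivial U] [Nontrivial W] (hG : h.Gens M)

include hG

/-- Conjugation of a skew element by the first factor. -/
theorem pww_conjU {z a : U} (hz : h.fU z z = 0) (ha : h.fU z a = 0) {w : W} {G : Module.End F U}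
    (hX : In M (h.P w w G)) : In M (h.P w w (h.shU z a * G * h.adj (h.shU z a))) := by
  obtain ⟨k, hk, ek⟩ := act_sh (h := h.swap) hG.swap hz ha
  have ek' : ∀ u x, k (h.tp u x) = h.tp (h.shU z a u) x := fun u x => ek x u
  have hza : h.fU z (-a) = 0 := by rw [map_neg, ha, neg_zero]
  refine hX.conj hk fun T => ?_
  have e1 : ∀ u, h.shU z (-a) (h.shU z a u) = u := fun u => by
    have := LinearMap.congr_fun (h.shU_neg hz hza) u
    rwa [neg_neg] at this
  simp only [P_apply, ek', c_actU hG.le hk ek', h.adj_shU hz ha, Module.End.mul_apply, e1]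

/-- The odd part of the orbit of a root group. -/
theorem step {z z' a : U} (k : Frame3 h.fU z z' a) {w : W} (hw : h.gW w w = 0) {α β γ : F}
    (hX : In M (h.P w w (α • h.wedge z a + β • h.wedge z' a + γ • h.wedge z z'))) :
    h.ZIn M w (γ • h.wedge z a + (h.fU a a * β) • h.wedge z z') := by
  intro s
  have h2 := h.h2
  set G := α • h.wedge z a + β • h.wedge z' a + γ • h.wedge z z' with hGdef
  have hc := fun t : F => pww_conjU hG k.iz (a := t • a) (by rw [map_smul, k.za, smul_zero]) hX
  have := (hc (-(s / 2))).add ((hc (s / 2)).neg (P_sq hw _ _)) (by rw [mul_neg, P_sq hw, neg_zero])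
  rw [← P_neg, ← P_add] at this
  convert this using 2
  simp only [hGdef, mul_add, add_mul, mul_smul_comm, smul_mul_assoc, wedge_conj]
  have n := k
  refine LinearMap.ext fun u => ?_
  simp only [LinearMap.add_apply, LinearMap.smul_apply, LinearMap.neg_apply, wedge_apply, shU_apply, map_smul,
    map_add, map_sub, LinearMap.sub_apply, smul_eq_mul, k.iz, k.za, k.z'a, k.zz', k.az h.fN, k.az' h.fN]
  match_scalars <;> field_simp <;> ring

/-- One skew element gives all of them. -/
theorem zin_all (H : h.ThreeU) {w : W} (hw : h.gW w w = 0) {G : Module.End F U} (hskew : h.adj G = -G)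
    (hG0 : G ≠ 0) (hX : In M (h.P w w G)) (x y : U) : h.ZIn M w (h.wedge x y) := by
  obtain ⟨z, -, hz0, hz⟩ := Nice.exists_iso_in h.fU (⊤ : Submodule F U) (by rw [finrank_top, H.dU])
  obtain ⟨z', a, k⟩ := h.fN.exists_frame3 H.dU hz0 hz
  have ks := k.swap h.fN
  have hs : ∀ u v, h.fU (G u) v = - h.fU u (G v) := fun u v => by
    rw [← h.adj_spec, hskew, LinearMap.neg_apply, map_neg, LinearMap.neg_apply, neg_neg]
  set α := -h.fU a (G z') / h.fU a a with hα
  set β := -h.fU a (G z) / h.fU a a with hβ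
  set γ := h.fU z' (G z) with hγ
  have h2 := h.h2
  have hdiag : ∀ u, h.fU u (G u) = 0 := fun u => by
    have e := hs u u
    rw [h.f_sym] at e
    exact (mul_eq_zero.1 (show (2 : F) * h.fU u (G u) = 0 by linear_combination e)).resolve_left h2
  have hrep : G = α • h.wedge z a + β • h.wedge z' a + γ • h.wedge z z' := by
    refine LinearMap.ext fun u => ?_
    conv_lhs => rw [k.decomp h.fN H.dU (G u)]
    conv_rhs => rw [k.decomp h.fN H.dU u]
    have e1 : ∀ v, h.fU v (G u) = - h.fU (G v) u := fun v => by rw [hs, neg_neg]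
    have e2 : ∀ v v', h.fU (G v) v' = h.fU v' (G v) := fun v v' => h.f_sym _ _
    rw [e1 z, e1 z', e1 a, k.decomp h.fN H.dU u]
    simp only [map_add, map_smul, LinearMap.add_apply, LinearMap.smul_apply, wedge_apply, smul_eq_mul, k.iz, k.iz',
      k.zz', k.za, k.z'a, k.z'z h.fN, k.az h.fN, k.az' h.fN, e2, hdiag]
    have e3 : h.fU z (G z') = - γ := by rw [← e2, hs, hγ]
    have e4 : ∀ v, h.fU v (G a) = - h.fU a (G v) := fun v => by rw [← e2, hs]
    rw [e3, e4 z, e4 z', hα, hβ, hγ]
    have := k.aa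
    match_scalars <;> field_simp <;> ring
  have hsw : h.wedge z' z = -h.wedge z z' := by simp [wedge]
  -- from `z ∧ a`
  have hzz : h.ZIn M w (h.wedge z a) → h.ZIn M w (h.wedge z z') := fun hA => by
    have e := step hG ks hw (α := 0) (β := 1) (γ := 0) (by simpa using hA 1)
    simp only [zero_smul, zero_add, mul_one, hsw, smul_neg] at e
    rw [← neg_smul] at e
    exact e.of_smul (neg_ne_zero.2 k.aa)
  have hza' : h.ZIn M w (h.wedge z z') → h.ZIn M w (h.wedge z a) ∧ h.ZIn M w (h.wedge z' a) := fun hA => by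
    refine ⟨?_, ?_⟩
    · have e := step hG k hw (α := 0) (β := 0) (γ := 1) (by simpa using hA 1)
      simpa using e
    · have e := step hG ks hw (α := 0) (β := 0) (γ := -1) (by simpa [hsw] using hA 1)
      simp only [mul_zero, zero_smul, add_zero] at e
      exact e.of_smul (neg_ne_zero.2 one_ne_zero)
  have hzz' : h.ZIn M w (h.wedge z z') := by
    rw [hrep] at hX
    by_cases hb : β = 0 ∧ γ = 0
    · have hα0 : α ≠ 0 := fun e => hG0 (by rw [hrep, e, hb.1, hb.2]; simp)
      have e := step hG ks hw (α := 0) (β := α) (γ := 0) (by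
        rw [hb.1, hb.2] at hX
        simpa using hX)
      simp only [zero_smul, zero_add, hsw, smul_neg] at e
      rw [← neg_smul] at e
      exact e.of_smul (neg_ne_zero.2 (mul_ne_zero k.aa hα0))
    · have e := step hG k hw hX
      by_cases hb0 : β = 0
      · rw [hb0, mul_zero, zero_smul, add_zero] at e
        exact hzz (e.of_smul fun hγ0 => hb ⟨hb0, hγ0⟩)
      · have e' := step hG k hw (α := γ) (β := 0) (γ := h.fU a a * β) (by simpa using e 1)
        simp only [mul_zero, zero_smul, add_zero] at e'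
        exact hzz (e'.of_smul (mul_ne_zero k.aa hb0))
  obtain ⟨hza, hz'a⟩ := hza' hzz'
  suffices hrepw : h.wedge x y = ((h.fU z' x * h.fU a y - h.fU a x * h.fU z' y) / h.fU a a) • h.wedge z a +
      ((h.fU z x * h.fU a y - h.fU a x * h.fU z y) / h.fU a a) • h.wedge z' a +
      (h.fU z' x * h.fU z y - h.fU z x * h.fU z' y) • h.wedge z z' by
    rw [hrepw]
    exact ((hza.smul _).add hw (hz'a.smul _)).add hw (hzz'.smul _)
  refine LinearMap.ext fun u => ?_
  conv_lhs => rw [k.decomp h.fN H.dU x, k.decomp h.fN H.dU y]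
  simp only [LinearMap.add_apply, LinearMap.smul_apply, wedge_apply, map_add, map_smul, smul_eq_mul]
  have := k.aa
  match_scalars <;> field_simp <;> ring

/-- An element of the second factor moving one isotropic line to another. -/
theorem zin_move (H : h.Three) {w w'' : W} (hw0 : w ≠ 0) (hw : h.gW w w = 0) (hw''0 : w'' ≠ 0)
    (hw'' : h.gW w'' w'' = 0) {G : Module.End F U} (hX : h.ZIn M w G) : h.ZIn M w'' G := by
  by_cases hm : w'' ∈ Submodule.span F {w}
  · obtain ⟨c, rfl⟩ := Submodule.mem_span_singleton.1 hm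
    intro s
    refine Eq.subst (motive := fun X => In M X) ?_ (hX (c * c * s))
    exact LinearMap.ext fun T => by simp [P_apply, smul_smul]; ring_nf
  have hne : h.gW w w'' ≠ 0 := fun e => hm (H.noPair w w'' hw0 hw hw'' e)
  obtain ⟨w', b, c, fr⟩ := h.gN.exists_frame4 H.dW hw0 hw
  have k' := fr.toFrame3
  have h2 := h.h2
  -- a third isotropic line
  obtain ⟨v, hv, hvw, hvw''⟩ : ∃ v, h.gW v v = 0 ∧ h.gW v w ≠ 0 ∧ h.gW v w'' ≠ 0 := by
    by_contra hno
    push Not at hno
    have hcand : ∀ t : F, h.gW (w' + t • b + (-(t * t * h.gW b b / 2)) • w) w'' = 0 := fun t => hno _ (by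
      simp [fr.iz, fr.iz', fr.zz', k'.z'z h.gN, fr.za, fr.z'a, k'.az h.gN, k'.az' h.gN]
      field_simp
      ring) (by simp [fr.iz, k'.z'z h.gN, k'.az h.gN])
    have e0 := hcand 0
    have e1 := hcand 1
    have e2 := hcand (-1)
    simp only [map_add, map_smul, LinearMap.add_apply, LinearMap.smul_apply, smul_eq_mul] at e0 e1 e2
    refine hne (mul_left_cancel₀ fr.aa ?_)
    field_simp at e0 e1 e2 ⊢
    refine mul_left_cancel₀ h2 ?_
    linear_combination 2 * e0 - e1 - e2
  set x := (h.gW v w)⁻¹ • w with hx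
  set x'' := (h.gW v w'')⁻¹ • w'' with hx''
  have hva : h.gW v (x - x'') = 0 := by
    simp [hx, hx'', inv_mul_cancel₀ hvw, inv_mul_cancel₀ hvw'']
  obtain ⟨k, hk, ek⟩ := act_sh hG hv hva
  have hρ : h.shW v (x - x'') x = x'' := by
    have h2 := h.h2
    simp only [shW_apply, hx, hx'', map_sub, map_smul, LinearMap.sub_apply, LinearMap.smul_apply, smul_eq_mul,
      hw, hw'', h.g_sym w'' w]
    match_scalars <;> field_simp <;> ring
  intro s
  have h1 := (hX ((h.gW v w)⁻¹ * (h.gW v w)⁻¹ * (h.gW v w'' * h.gW v w'') * s)).conj hk fun T => P_act hG.le hk ek w w _ T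
  have e : h.shW v (x - x'') w = h.gW v w • x'' := by
    calc h.shW v (x - x'') w = h.shW v (x - x'') (h.gW v w • x) := by
          congr 1
          rw [hx, smul_smul, mul_inv_cancel₀ hvw, one_smul]
      _ = _ := by rw [map_smul, hρ]
  rw [e, hx''] at h1
  refine Eq.subst (motive := fun X => In M X) ?_ h1
  refine LinearMap.ext fun T => ?_
  simp only [P_apply, map_smul, LinearMap.smul_apply, smul_smul]
  congr 1
  field_simp

omit hG in
/-- A product of two centre elements at opposite vectors. -/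
theorem in_lg {w w' : W} (hw : h.gW w w = 0) (hw' : h.gW w' w' = 0) (hww' : h.gW w w' = 1)
    (hZ : ∀ x y, h.ZIn M w (h.wedge x y)) (hZ' : ∀ x y, h.ZIn M w' (h.wedge x y)) {x y t : U}
    (hxy : h.fU x y = 0) (ht : h.fU t t ≠ 0) (hxt : h.fU x t = 0) (hyt : h.fU y t = 0) (s : F) :
    In M (h.lg w w' (s • h.rk x y)) := by
  have hX := hZ x t s
  have hY := hZ' t y (h.fU t t)⁻¹
  have hw'w : h.gW w' w = 1 := by rw [h.g_sym, hww']
  have hyx : h.fU y x = 0 := by rw [h.f_sym, hxy]
  have htx : h.fU t x = 0 := by rw [h.f_sym, hxt]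
  have hty : h.fU t y = 0 := by rw [h.f_sym, hyt]
  have e1 : (s • h.wedge x t) * ((h.fU t t)⁻¹ • h.wedge t y) = s • h.rk x y := LinearMap.ext fun u => by
    simp [Module.End.mul_apply, wedge_apply, rk_apply, hxy, hyx, hxt, htx, hyt, hty, smul_smul]
    field_simp
  have e2 : ((h.fU t t)⁻¹ • h.wedge t y) * (s • h.wedge x t) = s • h.rk y x := LinearMap.ext fun u => by
    simp [Module.End.mul_apply, wedge_apply, rk_apply, hxy, hyx, hxt, htx, hyt, hty, smul_smul]
    field_simp
  have e3 : (s • h.rk x y) * (s • h.wedge x t) = 0 := LinearMap.ext fun u => by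
    simp [Module.End.mul_apply, wedge_apply, rk_apply, hxy, hyx, hxt, htx, hyt, hty]
  have e4 : (s • h.rk y x) * ((h.fU t t)⁻¹ • h.wedge t y) = 0 := LinearMap.ext fun u => by
    simp [Module.End.mul_apply, wedge_apply, rk_apply, hxy, hyx, hxt, htx, hyt, hty]
  have hz : ∀ c d : W, h.P c d (0 : Module.End F U) = 0 := fun c d => LinearMap.ext fun T => by simp [P_apply]
  have := hX.comm hY (P_sq hw _ _) (P_sq hw' _ _)
    (by rw [P_mul, hww', one_smul, e1, P_mul, hw'w, one_smul, e3, hz])
    (by simp only [P_mul, hww', hw'w, one_smul, e1, e2, sub_mul, hw', zero_smul, e4, hz, sub_zero])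
  rw [P_mul, P_mul, hww', hw'w, one_smul, one_smul, e1, e2] at this
  simpa [lg, adj_rk] using this

/-- A skew element at one isotropic vector gives the Siegel group. -/
theorem siegel_of_pww (H : h.Three) {w : W} (hw0 : w ≠ 0) (hw : h.gW w w = 0) {G : Module.End F U}
    (hskew : h.adj G = -G) (hG0 : G ≠ 0) (hX : In M (h.P w w G)) : siegelGroup Q ≤ M := by
  have h2 := h.h2
  have hall : ∀ v, v ≠ 0 → h.gW v v = 0 → ∀ x y, h.ZIn M v (h.wedge x y) := fun v hv0 hv x y =>
    zin_move hG H hw0 hw hv0 hv (zin_all hG H.toThreeU hw hskew hG0 hX x y)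
  have key : ∀ w, w ≠ 0 → h.gW w w = 0 → ∀ z, h.fU z z ≠ 0 → Full Q M (h.tp z w) := by
    intro w hw0 hw z hz
    have he := h.Q_tp_zero z hw
    set R := rootSpace Q M he with hRdef
    obtain ⟨w', b, c, fr⟩ := h.gN.exists_frame4 H.dW hw0 hw
    have k' := fr.toFrame3
    obtain ⟨a, a', hza, hza', haa', haa, ha'a', hdec⟩ := exists_orth3 H.toThreeU hz
    have sg : ∀ (z x : U) (w y : W), h.gW w w = 0 → h.gW y y = 0 → (∀ s : F, In M (h.lg w y (s • h.rk z x))) →
        RootIn Q M (h.tp z w) (h.tp x y) := by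
      intro z x w y hw hy hin t he' hp
      obtain ⟨g, hg, eg⟩ := hin (-t)
      convert hg using 1
      refine LinearEquiv.ext fun T => ?_
      rw [eg, siegel_apply, CfsgLib.Geometry.map_smul', h.Q_tp_zero x hy, polar_smul_right', h.polar_tp', h.polar_tp']
      simp only [lg, LinearMap.sub_apply, P_apply, adj_smul, adj_rk, rk_apply, map_smul, LinearMap.smul_apply]
      module
    have hw_mem : ∀ x, h.tp x w ∈ R := fun x => ⟨by rw [h.pol, hw, mul_zero], sg _ _ _ _ hw hw fun s => by
      refine Eq.subst (motive := fun X => In M X) ?_ (hall w hw0 hw z x s)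
      simp [lg, wedge, adj_rk, P_smul, smul_sub, sub_eq_add_neg, P_add, P_neg]⟩
    have hy_mem : ∀ y, h.gW y y = 0 → h.gW w y = 1 → ∀ x, h.fU z x = 0 → h.tp x y ∈ R := by
      intro y hy hwy x hx
      have hy0 : y ≠ 0 := fun e => by rw [e, map_zero] at hwy; exact zero_ne_one hwy
      have m : ∀ x t, h.fU z x = 0 → h.fU z t = 0 → h.fU t t ≠ 0 → h.fU x t = 0 → h.tp x y ∈ R :=
        fun x t hzx hzt htt hxt => ⟨by rw [h.pol, hzx, zero_mul], sg _ _ _ _ hw hy
          (in_lg hw hy hwy (hall w hw0 hw) (hall y hy0 hy) hzx htt hzt hxt)⟩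
      rw [hdec x, hx, zero_div, zero_smul, zero_add, map_add, map_smul, map_smul, LinearMap.add_apply,
        LinearMap.smul_apply, LinearMap.smul_apply]
      exact R.add_mem (R.smul_mem _ (m a a' hza hza' ha'a' haa'))
        (R.smul_mem _ (m a' a hza' hza haa (by rw [h.f_sym, haa'])))
    have hmid : ∀ v, h.gW w v = 0 → h.gW w' v = 0 → ∀ x, h.tp x v ∈ R := by
      intro v hwv hw'v
      set y := w' + v + (-(h.gW v v / 2)) • w with hydef
      have hy : h.gW y y = 0 := by
        simp [hydef, fr.iz, fr.iz', fr.zz', k'.z'z h.gN, hwv, hw'v, h.g_sym v w, h.g_sym v w']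
        field_simp
        ring
      have hwy : h.gW w y = 1 := by simp [hydef, fr.iz, fr.zz', hwv]
      have hperp : ∀ x, h.fU z x = 0 → h.tp x v ∈ R := fun x hx => by
        have := R.sub_mem (R.sub_mem (hy_mem y hy hwy x hx) (hy_mem w' fr.iz' fr.zz' x hx))
          (R.smul_mem (-(h.gW v v / 2)) (hw_mem x))
        refine Eq.subst (motive := fun t => t ∈ R) ?_ this
        rw [hydef, map_add, map_add, map_smul]
        abel
      have hz' : h.tp z v ∈ R := by
        set r := (h.fU z z)⁻¹ • z with hr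
        have har : h.fU a r = 0 := by rw [hr, map_smul, h.f_sym a z, hza, smul_zero]
        have ha'z : h.fU a' z = 0 := by rw [h.f_sym, hza']
        obtain ⟨g, hg, eg⟩ := in_lg (x := a) (y := r) (t := a') hw fr.iz' fr.zz' (hall w hw0 hw)
          (hall w' (fun e => by have := fr.zz'; rw [e, map_zero] at this; exact zero_ne_one this) fr.iz') har ha'a'
          haa' (by rw [hr, map_smul, LinearMap.smul_apply, hza', smul_zero]) 1
        have haz : h.fU a z = 0 := by rw [h.f_sym, hza]
        have hw'w := k'.z'z h.gN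
        set x := h.fU a a • z + h.fU z z • a with hx
        have hy0 : y ≠ 0 := fun e => by rw [e, map_zero] at hwy; exact zero_ne_one hwy
        have hz0x : h.fU (z - a) x = 0 := by simp [hx, hza, haz]; ring
        have hroot := sg (z - a) x w y hw hy (in_lg hw hy hwy (hall w hw0 hw) (hall y hy0 hy) hz0x ha'a'
          (by simp [hza', haa']) (by simp [hx, hza', haa']))
        have hg0 : g (h.tp (z - a) w) = h.tp z w := by
          rw [eg]
          simp [lg, P_apply, rk_apply, adj_rk, hw, hw'w, hr, hza, haz, hz]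
        have hgT : g (h.tp x y) = h.tp (h.fU z z • a) w' + h.tp x v +
            (-(h.gW v v / 2)) • h.tp (x + h.fU r x • a) w := by
          rw [eg]
          simp [hydef, lg, P_apply, rk_apply, adj_rk, hw, hw'w, fr.iz', fr.zz', hwv, hw'v, hr, hx, hza, haz, hz]
          match_scalars <;> field_simp <;> ring
        have hpol : polar Q (h.tp (z - a) w) (h.tp x y) = 0 := by rw [h.pol, hz0x, zero_mul]
        have hin : g (h.tp x y) ∈ R := by
          refine ⟨?_, fun t => ?_⟩
          · have := orth_polar (hG.le hg) (h.tp (z - a) w) (h.tp x y)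
            rwa [hg0, hpol] at this
          have := (hroot t).conj hg (hG.le hg)
          rwa [hg0, map_smul] at this
        rw [hgT] at hin
        have h3 := R.sub_mem (R.sub_mem hin (R.smul_mem (-(h.gW v v / 2)) (hw_mem (x + h.fU r x • a))))
          (hy_mem w' fr.iz' fr.zz' (h.fU z z • a) (by rw [map_smul, hza, smul_zero]))
        rw [add_sub_cancel_right, add_sub_cancel_left] at h3
        have h4 := R.sub_mem h3 (R.smul_mem (h.fU z z) (hperp a hza))
        rw [hx, map_add, map_smul, map_smul, LinearMap.add_apply, LinearMap.smul_apply, LinearMap.smul_apply,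
          add_sub_cancel_right] at h4
        exact (Submodule.smul_mem_iff _ haa).1 h4
      intro x
      rw [hdec x, map_add, map_add, map_smul, map_smul, map_smul, LinearMap.add_apply, LinearMap.add_apply,
        LinearMap.smul_apply, LinearMap.smul_apply, LinearMap.smul_apply]
      exact R.add_mem (R.add_mem (R.smul_mem _ hz') (R.smul_mem _ (hperp a hza))) (R.smul_mem _ (hperp a' hza'))
    intro T he' hT
    suffices hTR : T ∈ R from hTR.2.one he' hT
    have hker : T - h.tp (h.c w T) w' ∈ R := by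
      refine (Submodule.span_le.2 ?_) (h.mem_span_perp hw0 (by rw [map_sub, h.c_tp, fr.zz', one_smul, sub_self]))
      rintro _ ⟨u, x, hx, rfl⟩
      rw [h.g_sym] at hx
      show h.tp u x ∈ R
      rw [fr.decomp h.gN H.dW x, hx, zero_smul, add_zero, map_add, map_add, map_smul, map_smul, map_smul]
      exact R.add_mem (R.add_mem (R.smul_mem _ (hw_mem u)) (R.smul_mem _ (hmid b fr.za fr.z'a u)))
        (R.smul_mem _ (hmid c fr.wc fr.w'c u))
    have := R.add_mem hker (hy_mem w' fr.iz' fr.zz' (h.c w T) (by rw [h.pol_c]; exact hT))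
    rwa [sub_add_cancel] at this
  obtain ⟨w', hw', hww'⟩ := h.gN.exists_partner hw0 hw
  have hw'0 : w' ≠ 0 := fun e => by rw [e, map_zero] at hww'; exact zero_ne_one hww'
  obtain ⟨z, hz⟩ := h.fN.exists_aniso
  have h3 := (key w' hw'0 hw' z hz).smul (h.Q_tp_zero z hw') (h.fU z z)⁻¹
  exact siegelGroup_le_of_full h.qnd (h.Q_tp_zero z hw)
    (by rw [CfsgLib.Geometry.map_smul', h.Q_tp_zero z hw', mul_zero])
    (by rw [polar_smul_right', h.pol, hww', mul_one, inv_mul_cancel₀ hz]) (key w hw0 hw z hz) h3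

end TData

end CfsgLib.TensorOO
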