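import Cfsg.Agent.Lib.OrthMax.TensorOO.Four.Invol
import Cfsg.Agent.Lib.OrthMax.TensorOO.Bridge

/-! The stabiliser of a product `O₃ ⊗ O₄⁻` is maximal. -/

set_option autoImplicit false
set_option linter.unusedSectionVars false
set_option linter.unusedVariables false
set_option linter.unusedSimpArgs false

namespace CfsgLib.TensorOO

open QuadraticMap CfsgLib.Geometry CfsgLib.OrthMax
open CfsgLib.TensorSp (In)
open LinearMap (BilinForm)

variable {F V U W : Type*} [Field F] [Finite F] [AddCommGroup V] [Module F V] [AddCommGroup U] [Module F U]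
  [AddCommGroup W] [Module F W]
variable [FiniteDimensional F V] [FiniteDimensional F U] [FiniteDimensional F W]
variable {Q : QuadraticForm F V} {M : Subgroup (V ≃ₗ[F] V)}

namespace TData

variable {h : TData Q U W} [Nontrivial U] [Nontrivial W] (hG : h.Gens M) (H : h.Three) (hN : h.NoZ M)

include hG H hN

/-- An element conjugating one half turn to another is a product. -/
theorem pure_of_sigma_conj {g : V ≃ₗ[F] V} (hg : g ∈ M) {e e' : U} (he : h.fU e e ≠ 0) (he' : h.fU e' e' ≠ 0)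
    {s s' : V ≃ₗ[F] V} (hs : s ∈ M) (hs' : s' ∈ M) (es : ∀ u y, s (h.tp u y) = h.tp (h.sigma e u) y)
    (es' : ∀ u y, s' (h.tp u y) = h.tp (h.sigma e' u) y) (hc : g * s * g⁻¹ = s') : h.Pure g := by
  obtain ⟨p, hp⟩ := CharP.exists F
  haveI := Fact.mk (CharP.char_is_prime F p)
  obtain ⟨w, -, hw0, hw⟩ := Nice.exists_iso_in h.gW (⊤ : Submodule F W) (by rw [finrank_top, H.dW]; omega)
  obtain ⟨w', b, c, fr⟩ := h.gN.exists_frame4 H.dW hw0 hw
  obtain ⟨x, hx, ex⟩ := in_sh hG hw fr.za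
  have hxs : Commute x s := LinearEquiv.ext fun T => by
    rw [LinearEquiv.mul_apply, LinearEquiv.mul_apply, ex, ex, map_add, sh_commU hG hs es]
  have hys : Commute (g * x * g⁻¹) s' := by
    rw [← hc]
    show g * x * g⁻¹ * (g * s * g⁻¹) = g * s * g⁻¹ * (g * x * g⁻¹)
    calc _ = g * (x * s) * g⁻¹ := by group
      _ = g * (s * x) * g⁻¹ := by rw [hxs.eq]
      _ = _ := by group
  have hy : g * x * g⁻¹ ∈ M := mul_mem (mul_mem hg hx) (inv_mem hg)
  have hP := cent_sigma_pure hG H hN hy he' hs' es' hys.eq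
  have hxp : x ^ p = 1 := LinearEquiv.ext fun T => by
    rw [sh_pow hw fr.za ex, CharP.cast_eq_zero F p, zero_smul, sh_zero]
    simp
  obtain ⟨S, eS⟩ := pelem H.toThreeU he' es' (hG.le hy) hP (p := p) (by rw [conj_pow, hxp, mul_one, mul_inv_cancel]) hys
  exact pure_of_short_image hG H hN hg hw0 hw fr.za fr.aa ex eS

omit hN in
/-- Either everything or only products. -/
theorem dichotomy_three_four : siegelGroup Q ≤ M ∨ ∀ g ∈ M, h.Pure g := by
  classical
  refine (siegel_or_noZ hG H).imp_right fun hN g hg => ?_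
  haveI := finite_equiv (F := F) (V := V)
  have hV5 := finrank_V12 H
  have h2 := h.h2
  obtain ⟨e₁, he₁⟩ := h.fN.exists_aniso
  haveI := Fintype.ofFinite F
  obtain ⟨ν, hν⟩ := FiniteField.exists_nonsquare (F := F) (fun hc => h2 (by
    haveI := ringChar.of_eq hc
    exact CharTwo.two_eq_zero))
  have hν0 : ν ≠ 0 := fun e => hν (e ▸ IsSquare.zero)
  obtain ⟨e₂, -, he₂'⟩ := h.fN.exists_norm h.fN.ndIn_top (by rw [finrank_top, H.dU]; omega) (ν * h.fU e₁ e₁)
  have he₂ : h.fU e₂ e₂ ≠ 0 := by rw [he₂']; exact mul_ne_zero hν0 he₁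
  obtain ⟨i, hi, ei⟩ := hG.sigma_mem H hV5 he₁
  obtain ⟨s, hs, es⟩ := hG.sigma_mem H hV5 he₂
  have sq : ∀ {e : U} {k : V ≃ₗ[F] V}, h.fU e e ≠ 0 → (∀ u y, k (h.tp u y) = h.tp (h.sigma e u) y) → k * k = 1 :=
    fun he ek => h.equiv_ext fun u y => by rw [LinearEquiv.mul_apply, ek, ek, h.sigma_sq he]; rfl
  set j := g * s * g⁻¹ with hj
  have hjM : j ∈ M := mul_mem (mul_mem hg hs) (inv_mem hg)
  have hj2 : j * j = 1 := by
    rw [hj, show g * s * g⁻¹ * (g * s * g⁻¹) = g * (s * s) * g⁻¹ by group, sq he₂ es, mul_one, mul_inv_cancel]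
  have hjfix : Module.finrank F (fixSp j) = 4 := by rw [finrank_fixSp_conj, finrank_fix_sigma H he₂ es]
  have hcl : Subgroup.closure ({i, j} : Set (V ≃ₗ[F] V)) ≤ M := (Subgroup.closure_le M).2 (by
    rintro x (rfl | rfl)
    · exact hi
    · exact hjM)
  rcases invol_pair i j (sq he₁ ei) hj2 with ⟨k, hk, ek⟩ | ⟨k, hk, hk1, hk2, hki, hkj, hconj⟩
  · exfalso
    have hkM : g⁻¹ * k ∈ M := mul_mem (inv_mem hg) (hcl hk)
    have hc : g⁻¹ * k * i * (g⁻¹ * k)⁻¹ = s := by
      rw [show g⁻¹ * k * i * (g⁻¹ * k)⁻¹ = g⁻¹ * (k * i * k⁻¹) * g by group, ek, hj]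
      group
    obtain ⟨lam, S, eP⟩ := pure_of_sigma_conj hG H hN hkM he₁ he₂ hi hs ei es hc
    obtain ⟨b1, b2⟩ := Pure.bij eP
    obtain ⟨y₀, hy₀⟩ := exists_ne (0 : W)
    have hS0 : S y₀ ≠ 0 := fun e => hy₀ (b2.1 (by rw [e, map_zero]))
    have hfix : h.sigma e₂ (lam e₁) = lam e₁ := h.tp_injective hS0 (by
      rw [LinearMap.flip_apply, LinearMap.flip_apply, ← es, ← eP, ← hc, LinearEquiv.mul_apply, LinearEquiv.mul_apply,
        show (g⁻¹ * k)⁻¹ ((g⁻¹ * k) (h.tp e₁ y₀)) = h.tp e₁ y₀ from (g⁻¹ * k).symm_apply_apply _, ei,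
        h.sigma_self he₁])
    obtain ⟨t, ht⟩ := Submodule.mem_span_singleton.1 (h.sigma_fixed hfix)
    obtain ⟨c, hc'⟩ := exists_mult (hG.le hkM) eP
    obtain ⟨r, hr⟩ := h.isSquare_mult (by rw [H.dU]; decide) hc'
    have e1 := hc' e₁ e₁
    rw [← ht] at e1
    simp only [map_smul, LinearMap.smul_apply, smul_eq_mul, he₂', hr] at e1
    have e3 : t * (t * ν) = r * r := mul_right_cancel₀ he₁ (by linear_combination e1)
    have ht0 : t ≠ 0 := fun e => by
      rw [e, zero_smul] at ht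
      exact he₁ (by rw [b1.1 (ht.symm.trans (map_zero lam).symm), map_zero])
    refine hν ⟨r / t, ?_⟩
    field_simp
    linear_combination e3
  · have hkM := hcl hk
    have hPk := cent_sigma_pure hG H hN hkM he₁ hi ei hki
    obtain ⟨lam, S, eP⟩ := hPk
    have hPik : h.Pure (i * k) := ⟨h.sigma e₁ * lam, S, fun u y => by
      rw [LinearEquiv.mul_apply, eP, ei]; rfl⟩
    have hik2 : i * k * (i * k) = 1 := by
      rw [show i * k * (i * k) = i * (k * i) * k by group, hki,
        show i * (i * k) * k = (i * i) * (k * k) by group, sq he₁ ei, hk2, mul_one]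
    have hikfix : Module.finrank F (fixSp (i * k)) = 4 := by
      rcases hconj with ⟨q, -, eq'⟩ | ⟨q, -, eq'⟩ <;> rw [← eq', finrank_fixSp_conj]
      · exact finrank_fix_sigma H he₁ ei
      · exact hjfix
    obtain ⟨e', he', eik⟩ := classify H (hG.le (mul_mem hi hkM)) hPik hik2 hikfix
    have ek : ∀ u y, k (h.tp u y) = h.tp (h.sigma e₁ (h.sigma e' u)) y := fun u y => by
      rw [← ei, ← eik, ← LinearEquiv.mul_apply, ← mul_assoc, sq he₁ ei, one_mul]
    obtain ⟨y₀, hy₀⟩ := exists_ne (0 : W)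
    have hcomm : ∀ u, h.sigma e₁ (h.sigma e' u) = h.sigma e' (h.sigma e₁ u) := fun u => h.tp_injective hy₀ (by
      have hc : (i * k) * i = i * (i * k) := by rw [mul_assoc, hki]
      have := LinearEquiv.congr_fun hc (h.tp u y₀)
      change (i * k) (i (h.tp u y₀)) = i ((i * k) (h.tp u y₀)) at this
      rw [ei, eik, eik, ei] at this
      exact this.symm)
    have hfix : h.sigma e' (h.sigma e₁ e') = h.sigma e₁ e' := by rw [← hcomm, h.sigma_self he']
    obtain ⟨κ, hκ⟩ := Submodule.mem_span_singleton.1 (h.sigma_fixed hfix)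
    have he'0 : e' ≠ 0 := fun e => he' (by rw [e, map_zero])
    have hκ2 : κ * κ = 1 := by
      have e1 := h.sigma_sq he₁ e'
      rw [← hκ, map_smul, ← hκ, smul_smul] at e1
      exact smul_left_injective F he'0 (e1.trans (one_smul F e').symm)
    rcases mul_self_eq_one_iff.1 hκ2 with h' | h'
    · exfalso
      rw [h', one_smul] at hκ
      obtain ⟨t, ht⟩ := Submodule.mem_span_singleton.1 (h.sigma_fixed hκ.symm)
      refine hk1 (h.equiv_ext fun u y => ?_)
      rw [ek, show h.sigma e' u = h.sigma e₁ u from ?_, h.sigma_sq he₁]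
      · rfl
      have ht0 : t ≠ 0 := fun e => he'0 (by rw [← ht, e, zero_smul])
      rw [← ht, sigma_apply, sigma_apply]
      simp only [map_smul, LinearMap.smul_apply, smul_eq_mul, smul_smul]
      congr 2
      field_simp
    · rw [h', neg_one_smul] at hκ
      have hee : h.fU e₁ e' = 0 := by
        have e1 := hκ.symm
        rw [sigma_apply, sub_eq_neg_self, smul_eq_zero] at e1
        rcases e1 with e1 | e1
        · rw [div_eq_zero_iff] at e1
          exact (mul_eq_zero.1 (e1.resolve_right he₁)).resolve_left h2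
        · exact absurd (by rw [e1, map_zero]) he₁
      obtain ⟨a, a', hea, hea', haa', haa, ha'a', hdec⟩ := exists_orth3 H.toThreeU he₁
      have hNd : NdIn h.fU (⊤ ⊓ LinearMap.ker (h.fU e₁)) := h.fN.ndIn_inter h.fN.ndIn_top Submodule.mem_top he₁
      rw [top_inf_eq] at hNd
      have hd1 : Module.finrank F (LinearMap.ker (h.fU e₁)) + 1 = Module.finrank F U :=
        h.fN.finrank_ker fun e => he₁ (by rw [e, map_zero])
      have hd2 := Nice.finrank_inter (B := h.fU) (S := LinearMap.ker (h.fU e₁)) (e := e') hee he'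
      have hdU := H.dU
      obtain ⟨e₃, ⟨h13, h23⟩, he₃⟩ := h.fN.exists_aniso_nd (h.fN.ndIn_inter hNd hee he') (by omega)
      simp only [SetLike.mem_coe, LinearMap.mem_ker] at h13 h23
      have hd3 := Nice.finrank_inter (B := h.fU) (S := LinearMap.ker (h.fU e₁) ⊓ LinearMap.ker (h.fU e')) (e := e₃)
        ⟨h13, h23⟩ he₃
      have hbot : LinearMap.ker (h.fU e₁) ⊓ LinearMap.ker (h.fU e') ⊓ LinearMap.ker (h.fU e₃) = ⊥ :=
        Submodule.finrank_eq_zero.1 (show Module.finrank F (LinearMap.ker (h.fU e₁) ⊓ LinearMap.ker (h.fU e') ⊓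
          LinearMap.ker (h.fU e₃) : Submodule F U) = 0 by omega)
      have h31 : h.fU e₃ e₁ = 0 := by rw [h.f_sym, h13]
      have h32 : h.fU e₃ e' = 0 := by rw [h.f_sym, h23]
      have h21 : h.fU e' e₁ = 0 := by rw [h.f_sym, hee]
      have ek3 : ∀ u y, k (h.tp u y) = h.tp (h.sigma e₃ u) y := fun u y => by
        rw [ek]
        congr 2
        refine sub_eq_zero.1 ((Submodule.eq_bot_iff _).1 hbot _ ⟨⟨?_, ?_⟩, ?_⟩) <;>
          simp [sigma_apply, hee, h13, h23, h21, h31, h32] <;> field_simp <;> ring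
      have hPj := cent_sigma_pure hG H hN hjM he₃ hkM ek3 hkj.symm
      obtain ⟨e₄, he₄, ej⟩ := classify H (hG.le hjM) hPj hj2 hjfix
      exact pure_of_sigma_conj hG H hN hg he₂ he₄ hs hjM es ej rfl

end TData

open Cfsg Cfsg.Geo

universe u

/-- The stabiliser of `O₃ ⊗ O₄⁻` is maximal. -/
theorem tensor_maximal_three_four {F : Type u} [Field F] [Fintype F] {ι : Type} [Fintype ι] [DecidableEq ι]
    {Q : QuadraticForm F (ι → F)} (hQ : (polarBilin Q).Nondegenerate) (h2 : (2 : F) ≠ 0)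
    (h5 : Fintype.card F ≠ 3) (e : ι ≃ Fin 3 × Fin 4) (P : Matrix.GeneralLinearGroup ι F)
    {f₁ : (Fin 3 → F) → (Fin 3 → F) → F} {f₂ : (Fin 4 → F) → (Fin 4 → F) → F}
    (hf₁ : IsSymmetricForm f₁) (hf₂ : IsSymmetricForm f₂)
    (hf₂m : ¬ IsPlusTypeOn (fun v : Fin 4 → F => f₂ v v) ⊤)
    (hT : IsTensorFormStructure id (polar ⇑Q) f₁ f₂ e P) :
    IsMaximalIn (omegaGL ⇑Q) (tensorProductSubgroup 3 4 e P ⊓ omegaGL ⇑Q) := by
  have hcard : Fintype.card ι = 12 := by simpa using Fintype.card_congr e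
  refine tensor_maximal_of hQ (by omega) h2 (by omega) (by omega) e P hf₁ hf₂ hT fun h N hgW hG => ?_
  refine TData.dichotomy_three_four hG ⟨⟨by simp, (exists_small h2 le_rfl ⟨1, rfl⟩ fun hh => h5 hh.1).resolve_left (by simp)⟩, by simp, fun z p hz0 hz hp hzp => by_contra fun hn => hf₂m
    ⟨Submodule.span F {z} ⊔ Submodule.span F {p}, le_top, fun x hx => ?_, ?_⟩⟩
  · obtain ⟨_, hq1, _, hq2, rfl⟩ := Submodule.mem_sup.1 hx
    obtain ⟨s, rfl⟩ := Submodule.mem_span_singleton.1 hq1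
    obtain ⟨t, rfl⟩ := Submodule.mem_span_singleton.1 hq2
    have hpz : h.gW p z = 0 := by rw [h.g_sym]; exact hzp
    show TensorSp.bil hf₂.bilinear (s • z + t • p) (s • z + t • p) = 0
    rw [← hgW]
    simp [hz, hp, hzp, hpz]
  · have hlt' : Submodule.span F {z} < Submodule.span F {z} ⊔ Submodule.span F {p} :=
      lt_of_le_of_ne le_sup_left fun e' => hn (e'.ge (Submodule.mem_sup_right (Submodule.mem_span_singleton_self p)))
    have i1 := Submodule.finrank_lt_finrank_of_lt hlt'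
    have i2 := Submodule.finrank_add_le_finrank_add_finrank (Submodule.span F {z}) (Submodule.span F {p})
    have hp0 : p ≠ 0 := fun e' => hn (e' ▸ zero_mem _)
    rw [finrank_span_singleton hz0] at i1 i2
    rw [finrank_span_singleton hp0] at i2
    rw [finrank_top, Module.finrank_fin_fun]
    omega

end CfsgLib.TensorOO
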