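import Cfsg.Agent.Lib.OrthMax.TensorOO.Four.LongRoot

/-! The radical of the stabiliser of `A w` when there is no root element in its centre. -/

set_option autoImplicit false
set_option linter.unusedSectionVars false
set_option linter.unusedVariables false
set_option linter.unusedSimpArgs false

namespace CfsgLib.TensorOO

open QuadraticMap CfsgLib.Geometry CfsgLib.OrthMax
open CfsgLib.TensorSp (In)
open LinearMap (BilinForm)

variable {F V U W : Type*} [Field F] [Finite F] [AddCommGroup V] [Module F V] [AddCommGroup U] [Module F U]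
  [AddCommGroup W] [Module F W]
variable [FiniteDimensional F V] [FiniteDimensional F U] [FiniteDimensional F W]
variable {Q : QuadraticForm F V} {M : Subgroup (V ≃ₗ[F] V)}

namespace TData

/-- No root element in the centre of a radical. -/
def NoZ (h : TData Q U W) (M : Subgroup (V ≃ₗ[F] V)) : Prop :=
  ∀ (w : W) (G : Module.End F U), w ≠ 0 → h.gW w w = 0 → h.adj G = -G → In M (h.P w w G) → G = 0

variable {h : TData Q U W} [Nontrivial U] [Nontrivial W] (hG : h.Gens M) (H : h.Three)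

include hG H

theorem siegel_or_noZ : siegelGroup Q ≤ M ∨ h.NoZ M :=
  or_iff_not_imp_left.2 fun hns w G hw0 hw hskew hX => by_contra fun hG0 =>
    hns (siegel_of_pww hG H hw0 hw hskew hG0 hX)

omit hG in
theorem expand {w w' b c : W} (fr : Frame4 h.gW w w' b c) (T : V) :
    T = h.tp (h.c w' T) w + h.tp (h.c w T) w' + (h.gW b b)⁻¹ • h.tp (h.c b T) b + (h.gW c c)⁻¹ • h.tp (h.c c T) c := by
  refine sub_eq_zero.1 (h.eq_zero_of_c fun x => ?_)
  have k' := fr.toFrame3
  conv_lhs => rw [fr.decomp h.gN H.dW x]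
  simp only [map_add, map_sub, map_smul, LinearMap.add_apply, LinearMap.smul_apply, c_tp, fr.iz, fr.iz', fr.zz', fr.za,
    fr.z'a, fr.wc, fr.w'c, fr.bc, k'.z'z h.gN, k'.az h.gN, k'.az' h.gN, fr.cw h.gN, fr.cw' h.gN, fr.cb h.gN]
  have := fr.aa
  have := fr.cc
  match_scalars <;> field_simp <;> ring

omit H in
/-- The components of a radical element are symmetric. -/
theorem Rad.comp_sym (hN : h.NoZ M) {w : W} (hw0 : w ≠ 0) (hw : h.gW w w = 0) {X : Module.End F V}
    (hX : h.Rad M w X) {b : W} (hwb : h.gW w b = 0) {D : Module.End F U}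
    (hD : ∀ u, X (h.tp u b) = h.tp (D u) w) : h.adj D = D := by
  have hbX := hX.c_apply hG hw hD
  have hXY : X * h.sh w b 1 = - h.P w w D := LinearMap.ext fun T => by
    simp [sh_apply, P_apply, hD, hX.hA]
  have hYX : h.sh w b 1 * X = - h.P w w (h.adj D) := LinearMap.ext fun T => by
    simp [sh_apply, P_apply, hbX, hX.hV]
  have := in_comm hX.mem (in_sh hG hw hwb)
    (by rw [hXY]; exact LinearMap.ext fun T => by simp [P_apply, hX.hV])
    (by rw [hYX]; exact LinearMap.ext fun T => by simp [P_apply, hX.hV])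
    (by rw [hXY, hYX]; exact LinearMap.ext fun T => by simp [P_apply, sh_apply, hw, hwb])
  rw [hXY, hYX, show -h.P w w D - -h.P w w (h.adj D) = h.P w w (h.adj D - D) from LinearMap.ext fun T => by
    simp [P_apply]; abel] at this
  exact sub_eq_zero.1 (hN w _ hw0 hw (by simp) this)

/-- Radical elements are short elements of the second factor. -/
theorem Rad.eq_sh4 (hN : h.NoZ M) {w : W} (hw0 : w ≠ 0) (hw : h.gW w w = 0) {X : Module.End F V}
    (hX : h.Rad M w X) : ∃ b, h.gW w b = 0 ∧ X = h.sh w b 1 := by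
  have h2 := h.h2
  obtain ⟨w', b, c, fr⟩ := h.gN.exists_frame4 H.dW hw0 hw
  have k' := fr.toFrame3
  have hbw := k'.az h.gN
  have hcw := fr.cw h.gN
  let Mem : Module.End F U → Module.End F U → Prop := fun D₁ D₂ => ∃ Y, h.Rad M w Y ∧
    (∀ u, Y (h.tp u b) = h.tp (D₁ u) w) ∧ ∀ u, Y (h.tp u c) = h.tp (D₂ u) w
  let Ψ : Module.End F U → Module.End F U → Module.End F U → Module.End F U → Module.End F U :=
    fun A B C D => (h.gW b b)⁻¹ • (A * C - C * A) + (h.gW c c)⁻¹ • (B * D - D * B)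
  have hiso : ∀ A B C D, Mem A B → Mem C D → Ψ A B C D = 0 := by
    rintro A B C D ⟨Y, hY, hA, hB⟩ ⟨Z, hZ, hC, hD⟩
    have sA := hY.comp_sym hG hN hw0 hw fr.za hA
    have sB := hY.comp_sym hG hN hw0 hw fr.wc hB
    have sC := hZ.comp_sym hG hN hw0 hw fr.za hC
    have sD := hZ.comp_sym hG hN hw0 hw fr.wc hD
    have prod : ∀ (Y Z : Module.End F V) (A B C D : Module.End F U), h.Rad M w Y → h.Rad M w Z →
        (∀ u, Y (h.tp u b) = h.tp (A u) w) → (∀ u, Y (h.tp u c) = h.tp (B u) w) →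
        (∀ u, Z (h.tp u b) = h.tp (C u) w) → (∀ u, Z (h.tp u c) = h.tp (D u) w) → h.adj C = C → h.adj D = D →
        Y * Z = h.P w w (-((h.gW b b)⁻¹ • (A * C) + (h.gW c c)⁻¹ • (B * D))) := by
      intro Y Z A B C D hY hZ hA hB hC hD sC sD
      refine LinearMap.ext fun T => ?_
      rw [Module.End.mul_apply, expand H fr (Z T), hZ.hV, hZ.c_apply hG hw hC, hZ.c_apply hG hw hD, sC, sD]
      simp only [map_add, map_neg, map_smul, map_zero, LinearMap.zero_apply, LinearMap.neg_apply, hY.hA, hA, hB,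
        P_apply, LinearMap.add_apply, LinearMap.smul_apply, Module.End.mul_apply]
      module
    have eYZ := prod Y Z A B C D hY hZ hA hB hC hD sC sD
    have eZY := prod Z Y C D A B hZ hY hC hD hA hB sA sB
    have := in_comm hY.mem hZ.mem (by rw [eYZ]; exact LinearMap.ext fun T => by simp [P_apply, hY.hV])
      (by rw [eZY]; exact LinearMap.ext fun T => by simp [P_apply, hY.hV])
      (by rw [eYZ, eZY]; exact LinearMap.ext fun T => by simp [P_apply, hZ.hV])
    rw [eYZ, eZY] at this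
    have hskew : h.adj (Ψ A B C D) = - Ψ A B C D := by
      simp only [Ψ, adj_add, adj_smul, adj_sub, adj_mul, sA, sB, sC, sD]
      module
    refine neg_eq_zero.1 (hN w _ hw0 hw (by rw [adj_neg, hskew]) ?_)
    refine Eq.subst (motive := fun X => In M X) ?_ this
    simp only [Ψ]
    refine LinearMap.ext fun T => ?_
    simp only [P_apply, LinearMap.sub_apply, LinearMap.neg_apply, LinearMap.add_apply, LinearMap.smul_apply, map_neg,
      map_add, map_smul, map_sub]
    module
  have hconj : ∀ {z a : U}, h.fU z z = 0 → h.fU z a = 0 → ∀ A B, Mem A B →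
      Mem (h.shU z a * A * h.shU z (-a)) (h.shU z a * B * h.shU z (-a)) := by
    rintro z a hz ha A B ⟨Y, hY, hA, hB⟩
    obtain ⟨k, hk, ek⟩ := act_sh (h := h.swap) hG.swap hz ha
    have ek' : ∀ u x, k (h.tp u x) = h.tp (h.shU z a u) x := fun u x => ek x u
    have hza : h.fU z (-a) = 0 := by rw [map_neg, ha, neg_zero]
    have e1 : ∀ u, h.shU z a (h.shU z (-a) u) = u := fun u => LinearMap.congr_fun (h.shU_neg hz ha) u
    have es : ∀ u x, k.symm (h.tp u x) = h.tp (h.shU z (-a) u) x := fun u x => by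
      rw [LinearEquiv.symm_apply_eq, ek', e1]
    refine ⟨k.toLinearMap ∘ₗ Y ∘ₗ k.symm.toLinearMap, ⟨hY.mem.conj hk fun T => by simp, fun u => ?_, fun u v hv => ?_,
      fun T => ?_⟩, fun u => ?_, fun u => ?_⟩
    · simp [es, hY.hA]
    · obtain ⟨p, hp⟩ := hY.hP (h.shU z (-a) u) v hv
      rw [LinearMap.flip_apply] at hp
      simp only [LinearMap.comp_apply, LinearEquiv.coe_coe, es, ← hp, ek']
      exact h.tp_mem_A _ _
    · simp [c_actU hG.le hk ek', hY.hV]
    · simp [es, hA, ek', Module.End.mul_apply]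
    · simp [es, hB, ek', Module.End.mul_apply]
  obtain ⟨s, hs0, hs1⟩ := H.hex
  have htop : ∀ {z z' a : U}, Frame3 h.fU z z' a → ∀ A B C D,
      (∀ t : F, Ψ A B (h.shU z (t • a) * C * h.shU z (-(t • a))) (h.shU z (t • a) * D * h.shU z (-(t • a))) = 0) →
      Ψ A B C D = 0 →
      Ψ A B (h.fU z (C z) • h.rk z z) (h.fU z (D z) • h.rk z z) = 0 := by
    intro z z' a k A B C D hP h0
    set e : F := 2 * (s * s * (s * s) - s * s) * (h.fU a a / 2 * (h.fU a a / 2)) with he
    have hc : ∀ E : Module.End F U, e • (h.fU z (E z) • h.rk z z) =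
        (h.shU z (s • a) * E * h.shU z (-(s • a)) + h.shU z ((-s) • a) * E * h.shU z (-((-s) • a)) - (2 : F) • E) -
        (s * s) • (h.shU z ((1 : F) • a) * E * h.shU z (-((1 : F) • a)) +
          h.shU z ((-1 : F) • a) * E * h.shU z (-((-1 : F) • a)) - (2 : F) • E) := fun E => LinearMap.ext fun u => by
      simp only [LinearMap.smul_apply, LinearMap.sub_apply, LinearMap.add_apply, Module.End.mul_apply, shU_apply,
        rk_apply, map_smul, map_neg, map_add, map_sub, LinearMap.neg_apply, LinearMap.smul_apply, smul_eq_mul, he]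
      match_scalars <;> field_simp <;> ring
    have he0 : e ≠ 0 := by
      rw [he, show s * s * (s * s) - s * s = s * s * (s * s - 1) by ring]
      exact mul_ne_zero (mul_ne_zero h2 (mul_ne_zero (mul_ne_zero hs0 hs0) (sub_ne_zero.2 hs1)))
        (mul_ne_zero (div_ne_zero k.aa h2) (div_ne_zero k.aa h2))
    refine (smul_eq_zero.1 (show e • Ψ A B (h.fU z (C z) • h.rk z z) (h.fU z (D z) • h.rk z z) = 0 from ?_)).resolve_left he0
    have key : e • Ψ A B (h.fU z (C z) • h.rk z z) (h.fU z (D z) • h.rk z z) =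
        Ψ A B (e • (h.fU z (C z) • h.rk z z)) (e • (h.fU z (D z) • h.rk z z)) := by
      simp only [Ψ, mul_smul_comm, smul_mul_assoc]
      module
    rw [key, hc C, hc D]
    calc _ = (Ψ A B (h.shU z (s • a) * C * h.shU z (-(s • a))) (h.shU z (s • a) * D * h.shU z (-(s • a))) +
          Ψ A B (h.shU z ((-s) • a) * C * h.shU z (-((-s) • a))) (h.shU z ((-s) • a) * D * h.shU z (-((-s) • a))) -
          (2 : F) • Ψ A B C D) - (s * s) • (Ψ A B (h.shU z ((1 : F) • a) * C * h.shU z (-((1 : F) • a)))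
          (h.shU z ((1 : F) • a) * D * h.shU z (-((1 : F) • a))) + Ψ A B (h.shU z ((-1 : F) • a) * C *
          h.shU z (-((-1 : F) • a))) (h.shU z ((-1 : F) • a) * D * h.shU z (-((-1 : F) • a))) -
          (2 : F) • Ψ A B C D) := by
          simp only [Ψ, mul_add, add_mul, mul_sub, sub_mul, mul_smul_comm, smul_mul_assoc]
          module
      _ = 0 := by rw [hP, hP, hP, hP, h0]; simp
  have hflip : ∀ A B C D, Ψ A B C D = 0 → Ψ C D A B = 0 := fun A B C D e => by
    rw [← neg_eq_zero, ← e]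
    simp only [Ψ]
    module
  have hzero : ∀ A B, Mem A B → ∀ z, h.fU z z = 0 → h.fU z (A z) = 0 ∧ h.fU z (B z) = 0 := by
    intro A B hm z hz
    by_cases hz0 : z = 0
    · simp [hz0]
    obtain ⟨z', a, k⟩ := h.fN.exists_frame3 H.dU hz0 hz
    have key1 : ∀ C D, Mem C D → Ψ C D (h.fU z (A z) • h.rk z z) (h.fU z (B z) • h.rk z z) = 0 := fun C D hCD =>
      htop k C D A B (fun t => hiso _ _ _ _ hCD
        (hconj (a := t • a) k.iz (by rw [map_smul, k.za, smul_zero]) A B hm)) (hiso _ _ _ _ hCD hm)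
    set z'' := h.shU z' a z with hz''
    have ez : h.shU z' (-a) z'' = z := by
      have := LinearMap.congr_fun (h.shU_neg k.iz' (show h.fU z' (-a) = 0 by rw [map_neg, k.z'a, neg_zero])) z
      rwa [neg_neg] at this
    have hm'' := hconj k.iz' k.z'a A B hm
    have hiso'' : h.fU z'' z'' = 0 := by
      simp [hz'', shU_apply, k.iz, k.iz', k.za, k.z'a, k.z'z h.fN, k.az h.fN, k.az' h.fN, k.zz']
      field_simp
      ring
    have hzz'' : h.fU z z'' = -(h.fU a a / 2) := by
      simp [hz'', shU_apply, k.iz, k.za, k.zz', k.z'z h.fN, k.az h.fN]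
    have hz''0 : z'' ≠ 0 := fun e => by
      rw [e, map_zero] at hzz''
      exact neg_ne_zero.2 (div_ne_zero k.aa h2) hzz''.symm
    obtain ⟨z₁, a₁, k₁⟩ := h.fN.exists_frame3 H.dU hz''0 hiso''
    have hν : ∀ E : Module.End F U, h.fU z'' ((h.shU z' a * E * h.shU z' (-a)) z'') = h.fU z (E z) := fun E => by
      rw [Module.End.mul_apply, Module.End.mul_apply, ez, hz'']
      exact act_isom (h := h.swap) (hG.le) (act_sh (h := h.swap) hG.swap k.iz' k.z'a) _ _
    have key2 := htop k₁ (h.fU z (A z) • h.rk z z) (h.fU z (B z) • h.rk z z) _ _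
      (fun t => hflip _ _ _ _ (key1 _ _ (hconj (a := t • a₁) k₁.iz (by rw [map_smul, k₁.za, smul_zero]) _ _ hm'')))
      (hflip _ _ _ _ (key1 _ _ hm''))
    rw [hν, hν] at key2
    have e3 := congrArg (fun f => h.fU z'' (f z)) key2
    simp only [Ψ, LinearMap.add_apply, LinearMap.sub_apply, LinearMap.smul_apply, Module.End.mul_apply, rk_apply,
      map_smul, LinearMap.zero_apply, map_add, map_sub, map_zero, smul_eq_mul, k.iz, hiso'', h.f_sym z'' z,
      mul_zero, sub_zero] at e3
    set μ := h.fU z (A z)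
    set ν := h.fU z (B z)
    have hQ : (h.gW b b)⁻¹ * (μ * μ) + (h.gW c c)⁻¹ * (ν * ν) = 0 := by
      have hne : h.fU z z'' * h.fU z z'' * h.fU z z'' ≠ 0 := by
        rw [hzz'']
        exact mul_ne_zero (mul_ne_zero (neg_ne_zero.2 (div_ne_zero k.aa h2)) (neg_ne_zero.2 (div_ne_zero k.aa h2)))
          (neg_ne_zero.2 (div_ne_zero k.aa h2))
      refine (mul_eq_zero.1 (show _ * (h.fU z z'' * h.fU z z'' * h.fU z z'') = 0 from ?_)).resolve_right hne
      linear_combination e3
    have hv : h.gW ((μ / h.gW b b) • b + (ν / h.gW c c) • c) ((μ / h.gW b b) • b + (ν / h.gW c c) • c) = 0 := by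
      have := fr.aa
      have := fr.cc
      simp [fr.bc, fr.cb h.gN]
      field_simp at hQ ⊢
      linear_combination hQ
    obtain ⟨r, hr⟩ := Submodule.mem_span_singleton.1 (H.noPair w _ hw0 hw hv (by simp [fr.za, fr.wc]))
    refine ⟨?_, ?_⟩
    · have := congrArg (h.gW b) hr
      simpa [hbw, fr.bc, div_mul_cancel₀ _ fr.aa] using this.symm
    · have := congrArg (h.gW c) hr
      simpa [hcw, fr.cb h.gN, div_mul_cancel₀ _ fr.cc] using this.symm
  -- the two components
  let D : W → Module.End F U := fun v => h.c w' ∘ₗ X ∘ₗ h.tp.flip v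
  have hD : ∀ v, h.gW w v = 0 → ∀ u, X (h.tp u v) = h.tp (D v u) w := fun v hwv u => by
    obtain ⟨y, hy⟩ := hX.hP u v (by rw [h.g_sym, hwv])
    simp only [D, LinearMap.comp_apply, LinearMap.flip_apply, ← hy]
    rw [h.c_tp, k'.z'z h.gN, one_smul]
  have hmem : Mem (D b) (D c) := ⟨X, hX, hD b fr.za, hD c fr.wc⟩
  have hsym : ∀ v, h.gW w v = 0 → ∀ x y, h.fU (D v x) y = h.fU x (D v y) := fun v hv x y => by
    rw [← h.adj_spec, hX.comp_sym hG hN hw0 hw hv (hD v hv)]
  obtain ⟨κ, hκ⟩ := sym_scalar (h := h) H.dU.ge (Or.inr H.hex) (hsym b fr.za) fun z hz => (hzero _ _ hmem z hz).1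
  obtain ⟨ι, hι⟩ := sym_scalar (h := h) H.dU.ge (Or.inr H.hex) (hsym c fr.wc) fun z hz => (hzero _ _ hmem z hz).2
  set b₀ := (κ / h.gW b b) • b + (ι / h.gW c c) • c with hb₀
  have hbw₀ : h.gW w b₀ = 0 := by simp [hb₀, fr.za, fr.wc]
  refine ⟨b₀, hbw₀, ?_⟩
  have hnb : h.gW w (-b₀) = 0 := by rw [map_neg, hbw₀, neg_zero]
  set X₂ : Module.End F V := h.sh w (-b₀) 1 + X + h.sh w (-b₀) 1 * X with hX₂def
  have hIn : In M X₂ := (in_sh hG hw hnb).mul hX.mem
  have hzero₂ : ∀ u v, h.gW v w = 0 → X₂ (h.tp u v) = 0 := fun u v hv => by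
    have hwv : h.gW w v = 0 := by rw [h.g_sym, hv]
    rw [fr.decomp h.gN H.dW v, hwv, zero_smul, add_zero]
    simp only [hX₂def, map_add, map_smul, LinearMap.add_apply, Module.End.mul_apply, hD b fr.za u, hD c fr.wc u,
      hX.hA, hκ, hι, sh_one_tp, LinearMap.smul_apply, Module.End.one_apply]
    simp [hb₀, hw, fr.za, fr.wc, fr.bc, fr.cb h.gN, hbw, hcw, div_mul_cancel₀ _ fr.aa, div_mul_cancel₀ _ fr.cc]
  have hV : ∀ T, h.c w (X₂ T) = 0 := fun T => by
    simp [hX₂def, sh_apply, hX.hV, hw, hbw₀]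
  have hin : ∀ T, X₂ T ∈ h.A w := fun T => h.mem_A_of_perp hw0 fun u v hv => by
    have := hIn.polar_eq hG.le (h.tp u v) T
    rwa [hzero₂ u v hv, polar_zero_left, polar_zero_left, zero_add, add_zero] at this
  let G : Module.End F U := h.c w' ∘ₗ X₂ ∘ₗ h.tp.flip w'
  have hG₁ : X₂ = h.P w w G := LinearMap.ext fun T => by
    have e1 : X₂ (T - h.tp (h.c w T) w') = 0 := h.map_eq_zero_of_tp X₂ hw0 hzero₂ (by
      rw [map_sub, h.c_tp, fr.zz', one_smul, sub_self])
    rw [map_sub, sub_eq_zero] at e1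
    obtain ⟨y, hy⟩ := hin T
    have e2 : G (h.c w T) = h.c w' (X₂ T) := by rw [e1]; rfl
    rw [P_apply, e2, ← hy, LinearMap.flip_apply, h.c_tp, k'.z'z h.gN, one_smul]
  have hadj : h.adj G = -G := h.adj_eq fun u x => by
    have := hIn.polar_eq hG.le (h.tp u w') (h.tp x w')
    rw [hG₁, P_apply, P_apply, h.c_tp, h.c_tp, fr.zz', one_smul, one_smul, h.pol, h.pol, h.pol, hw, fr.zz',
      k'.z'z h.gN, mul_zero, mul_one, mul_one, add_zero] at this
    rw [LinearMap.neg_apply, map_neg, LinearMap.neg_apply]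
    linear_combination -this
  rw [hN w G hw0 hw hadj (hG₁ ▸ hIn), show h.P w w 0 = 0 from LinearMap.ext fun T => by simp [P_apply],
    hX₂def] at hG₁
  refine LinearMap.ext fun T => ?_
  have e := LinearMap.congr_fun hG₁ T
  simp only [LinearMap.add_apply, Module.End.mul_apply, LinearMap.zero_apply] at e
  have e' := congrArg (fun S => S + h.sh w b₀ 1 S) e
  simp only [map_add, map_zero, add_zero] at e'
  have hcancel : ∀ S, h.sh w b₀ 1 S + h.sh w (-b₀) 1 S + h.sh w b₀ 1 (h.sh w (-b₀) 1 S) = 0 := fun S => by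
    have := LinearMap.congr_fun (h.sh_add hw hbw₀ hnb 1) S
    rw [add_neg_cancel, sh_zero] at this
    simpa [Module.End.mul_apply] using this
  linear_combination (norm := abel) e' - hcancel T - hcancel (X T)

end TData

end CfsgLib.TensorOO
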