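import Cfsg.Agent.Lib.OrthMax.TensorOO.Four.Rad
import Cfsg.Agent.Lib.OrthMax.TensorOO.Stab

/-! An element mapping one `A w₀` to another is a product. -/

set_option autoImplicit false
set_option linter.unusedSectionVars false
set_option linter.unusedVariables false
set_option linter.unusedSimpArgs false

namespace CfsgLib.TensorOO

open QuadraticMap CfsgLib.Geometry CfsgLib.OrthMax
open CfsgLib.TensorSp (In)
open LinearMap (BilinForm)

variable {F V U W : Type*} [Field F] [Finite F] [AddCommGroup V] [Module F V] [AddCommGroup U] [Module F U]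
  [AddCommGroup W] [Module F W]
variable [FiniteDimensional F V] [FiniteDimensional F U] [FiniteDimensional F W]
variable {Q : QuadraticForm F V} {M : Subgroup (V ≃ₗ[F] V)}

/-- A commutator is blind to commuting parts. -/
theorem comm_of_mul {G : Type*} [Group G] {a b r s : G} (hra : Commute r a) (hrb : Commute r b) (hsa : Commute s a)
    (hsb : Commute s b) (hrs : Commute r s) : a * r * (b * s) * (a * r)⁻¹ * (b * s)⁻¹ = a * b * a⁻¹ * b⁻¹ := by
  calc a * r * (b * s) * (a * r)⁻¹ * (b * s)⁻¹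
      = a * (r * b) * (s * r⁻¹) * a⁻¹ * (s⁻¹ * b⁻¹) := by group
    _ = a * (b * r) * (r⁻¹ * s) * a⁻¹ * (b⁻¹ * s⁻¹) := by
        rw [hrb.eq, (hrs.symm.inv_right).eq, (hsb.inv_inv).eq]
    _ = a * b * (s * a⁻¹) * b⁻¹ * s⁻¹ := by group
    _ = a * b * a⁻¹ * (s * b⁻¹) * s⁻¹ := by rw [(hsa.inv_right).eq]; group
    _ = _ := by rw [(hsb.inv_right).eq]; group

namespace TData

variable {h : TData Q U W} [Nontrivial U] [Nontrivial W]

theorem finrank_V12 (H : h.Three) : 5 ≤ Module.finrank F V := by rw [finrank_V h, H.dU, H.dW]; norm_num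

/-- Two frame elements have no common commutant beyond the scalars. -/
theorem schur3 (H : h.ThreeU) {z z' a : U} (k : Frame3 h.fU z z' a) {T : Module.End F U}
    (e1 : ∀ u, T (h.shU z a u) = h.shU z a (T u)) (e2 : ∀ u, T (h.shU z' a u) = h.shU z' a (T u)) :
    ∃ κ : F, ∀ u, T u = κ • u := by
  have h2 := h.h2
  have fixed : ∀ {z z' a : U}, Frame3 h.fU z z' a → ∀ y, h.shU z a y = y → ∃ κ : F, y = κ • z := by
    intro z z' a k y hy
    rw [shU_apply] at hy
    have ea := congrArg (h.fU a) hy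
    simp [k.az h.fN] at ea
    have hzy : h.fU z y = 0 := ea.resolve_right k.aa
    rw [hzy, mul_zero, zero_smul, sub_zero, zero_smul, sub_zero] at hy
    have hay : h.fU a y = 0 := (smul_eq_zero.1 (add_left_cancel (hy.trans (add_zero y).symm))).resolve_right k.z0
    refine ⟨h.fU z' y, ?_⟩
    conv_lhs => rw [k.decomp h.fN H.dU y]
    simp [hzy, hay]
  have ks := k.swap h.fN
  have hfix : ∀ {z z' a : U}, Frame3 h.fU z z' a → h.shU z a z = z := fun k => by
    simp [shU_apply, k.iz, k.za, k.az h.fN]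
  obtain ⟨κ, hκ⟩ := fixed k (T z) (by rw [← e1, hfix k])
  obtain ⟨κ', hκ'⟩ := fixed ks (T z') (by rw [← e2, hfix ks])
  have ez' : h.shU z a z' = z' - a - (h.fU a a / 2) • z := by
    simp [shU_apply, k.zz', k.az' h.fN]
  have ez : h.shU z' a z = z - a - (h.fU a a / 2) • z' := by
    simp [shU_apply, k.z'z h.fN, k.az h.fN]
  have f1 := e1 z'
  rw [ez', map_sub, map_sub, map_smul, hκ, hκ', map_smul, ez'] at f1
  have f2 := e2 z
  rw [ez, map_sub, map_sub, map_smul, hκ, hκ', map_smul, ez] at f2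
  have ea : T a = κ' • a + (h.fU a a / 2 * (κ' - κ)) • z := by
    linear_combination (norm := module) -f1
  have ea' : T a = κ • a + (h.fU a a / 2 * (κ - κ')) • z' := by
    linear_combination (norm := module) -f2
  have hk : κ' = κ := by
    have := congrArg (h.fU a) (ea.symm.trans ea')
    simp [k.az h.fN, k.az' h.fN] at this
    exact this.resolve_right k.aa
  rw [hk] at hκ'
  rw [hk, sub_self, mul_zero, zero_smul, add_zero] at ea
  refine ⟨κ, fun u => ?_⟩
  conv_lhs => rw [k.decomp h.fN H.dU u]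
  conv_rhs => rw [k.decomp h.fN H.dU u]
  simp only [map_add, map_smul, hκ, hκ', ea]
  module

theorem shU_isom (hG : h.Gens M) {z a : U} (hz : h.fU z z = 0) (ha : h.fU z a = 0) (x y : U) :
    h.fU (h.shU z a x) (h.shU z a y) = h.fU x y :=
  act_isom (h := h.swap) hG.le (act_sh (h := h.swap) hG.swap hz ha) x y

/-- An element of the first factor commutes with the short elements. -/
theorem sh_commU (hG : h.Gens M) {k : V ≃ₗ[F] V} (hk : k ∈ M) {γ : Module.End F U}
    (ek : ∀ u y, k (h.tp u y) = h.tp (γ u) y) (w b : W) (T : V) : h.sh w b 1 (k T) = k (h.sh w b 1 T) := by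
  simp [sh_apply, c_actU hG.le hk ek, ek, map_sub, map_smul]

variable (hG : h.Gens M) (H : h.Three) (hN : h.NoZ M)

include hG H hN

/-- An element mapping one `A w₀` to an `A w` is a product. -/
theorem pure_of_member4 {g : V ≃ₗ[F] V} (hg : g ∈ M) {w₀ w : W} (hw₀0 : w₀ ≠ 0) (hw₀ : h.gW w₀ w₀ = 0)
    (hw0 : w ≠ 0) (hw : h.gW w w = 0) (hmap : ∀ u, g (h.tp u w₀) ∈ h.A w) : h.Pure g := by
  have h2 := h.h2
  have hV5 := finrank_V12 H
  have hgo := hG.le hg
  obtain ⟨w', b₁, c₁, fr⟩ := h.gN.exists_frame4 H.dW hw0 hw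
  obtain ⟨w₀', b₀, c₀, fr₀⟩ := h.gN.exists_frame4 H.dW hw₀0 hw₀
  have k' := fr.toFrame3
  let lam' : Module.End F U := h.c w' ∘ₗ g.toLinearMap ∘ₗ h.tp.flip w₀
  have hl : ∀ u, g (h.tp u w₀) = h.tp (lam' u) w := fun u => by
    obtain ⟨p, hp⟩ := hmap u
    rw [LinearMap.flip_apply] at hp
    simp only [lam', LinearMap.comp_apply, LinearEquiv.coe_coe, LinearMap.flip_apply, ← hp, h.c_tp, k'.z'z h.gN,
      one_smul]
  have hinj : Function.Injective lam' := (injective_iff_map_eq_zero _).2 fun u hu => by_contra fun hne =>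
    h.tp_ne_zero hne hw₀0 (g.injective (by rw [hl, hu, map_zero, map_zero, LinearMap.zero_apply]))
  let lam : U ≃ₗ[F] U := LinearEquiv.ofBijective lam' ⟨hinj, LinearMap.injective_iff_surjective.1 hinj⟩
  have hl : ∀ u, g (h.tp u w₀) = h.tp (lam u) w := hl
  have hgs : ∀ p, g.symm (h.tp p w) = h.tp (lam.symm p) w₀ := fun p => by
    rw [LinearEquiv.symm_apply_eq, hl, lam.apply_symm_apply]
  have hlc : ∀ x S, h.fU (lam x) (h.c w (g S)) = h.fU x (h.c w₀ S) := fun x S => by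
    rw [h.pol_c, h.pol_c, ← hl, orth_polar hgo]
  have hzero : ∀ S, h.c w₀ S = 0 → h.c w (g S) = 0 := fun S hz => h.ext_f fun p => by
    obtain ⟨x, rfl⟩ := lam.surjective p
    rw [hlc, hz, map_zero, map_zero]
  have hzero' : ∀ S, h.c w (g S) = 0 → h.c w₀ S = 0 := fun S hz => h.ext_f fun x => by
    rw [← hlc, hz, map_zero, map_zero]
  -- the short elements are permuted
  have hperm : ∀ b, h.gW w b = 0 → ∃ c, h.gW w₀ c = 0 ∧ ∀ T, g (h.sh w₀ c 1 T) = h.sh w b 1 (g T) := by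
    intro b hb
    let X : Module.End F V := g.symm.toLinearMap ∘ₗ h.sh w b 1 ∘ₗ g.toLinearMap
    have hX : h.Rad M w₀ X := by
      refine ⟨(in_sh hG hw hb).conj (inv_mem hg) fun T => ?_, fun u => ?_, fun u v hv => ?_, fun T => ?_⟩
      · simp only [X, LinearMap.comp_apply, LinearEquiv.coe_coe]
        rw [show g ((g⁻¹ : V ≃ₗ[F] V) T) = T from g.apply_symm_apply T]
        rfl
      · simp [X, hl, sh_one_tp, hw, hb, h.g_sym b w]
      · simp only [X, LinearMap.comp_apply, LinearEquiv.coe_coe, sh_apply,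
          hzero _ (show h.c w₀ (h.tp u v) = 0 by rw [h.c_tp, h.g_sym, hv, zero_smul]), map_zero, LinearMap.zero_apply,
          smul_zero, sub_zero, hgs]
        exact h.tp_mem_A _ _
      · simp only [X, LinearMap.comp_apply, LinearEquiv.coe_coe]
        refine hzero' _ ?_
        rw [g.apply_symm_apply]
        simp [sh_apply, hw, hb]
    obtain ⟨c, hc, hXe⟩ := hX.eq_sh4 hG H hN hw₀0 hw₀
    exact ⟨c, hc, fun T => by rw [← hXe]; simp [X]⟩
  -- `lam` is a similitude
  let mu : Module.End F U := h.c w ∘ₗ g.toLinearMap ∘ₗ h.tp.flip w₀'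
  have hlm : ∀ x u, h.fU (lam x) (mu u) = h.fU x u := fun x u => by
    show h.fU (lam x) (h.c w (g (h.tp u w₀'))) = _
    rw [hlc, h.c_tp, fr₀.zz', one_smul]
  obtain ⟨ν, hν0, hν⟩ : ∃ ν : F, ν ≠ 0 ∧ ∀ x y, h.fU (mu x) (mu y) = ν * h.fU x y := by
    obtain ⟨c, hc, he⟩ := hperm b₁ fr.za
    have key : ∀ u u', h.fU (mu u) (mu u') * h.gW b₁ b₁ = h.fU u u' * h.gW c c := fun u u' => by
      have e : ∀ u, g (h.tp u (h.gW c w₀' • w₀ - h.gW w₀ w₀' • c - (h.gW c c / 2 * h.gW w₀ w₀') • w₀)) =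
          h.tp (h.c b₁ (g (h.tp u w₀'))) w - h.tp (mu u) b₁ - (h.gW b₁ b₁ / 2) • h.tp (mu u) w := fun u => by
        rw [← sh_one_tp, he, sh_apply, adj_one]
        rfl
      have := orth_polar hgo (h.tp u (h.gW c w₀' • w₀ - h.gW w₀ w₀' • c - (h.gW c c / 2 * h.gW w₀ w₀') • w₀))
        (h.tp u' (h.gW c w₀' • w₀ - h.gW w₀ w₀' • c - (h.gW c c / 2 * h.gW w₀ w₀') • w₀))
      rw [e, e] at this
      simpa [h.pol, polar_sub_left, polar_sub_right, polar_smul_left', polar_smul_right', hw, hw₀, hc, fr.za,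
        k'.az h.gN, h.g_sym c w₀, fr₀.zz'] using this
    refine ⟨h.gW c c / h.gW b₁ b₁, fun e0 => ?_, fun x y => ?_⟩
    · obtain ⟨x, hx⟩ := exists_ne (0 : U)
      have hc0 : h.gW c c = 0 := (div_eq_zero_iff.1 e0).resolve_right fr.aa
      have hmi : Function.Injective mu := (injective_iff_map_eq_zero _).2 fun u hu => h.ext_f fun v => by
        rw [← hlm, hu, map_zero, map_zero]
      obtain ⟨p, hp⟩ := LinearMap.injective_iff_surjective.1 hmi x
      refine hx (h.ext_f fun v => ?_)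
      obtain ⟨q, rfl⟩ := LinearMap.injective_iff_surjective.1 hmi v
      have := key q p
      rw [hp, hc0, mul_zero] at this
      rw [map_zero]
      exact (mul_eq_zero.1 this).resolve_right fr.aa
    · rw [div_mul_eq_mul_div, eq_div_iff fr.aa, key]; ring
  have hsim : ∀ x y, h.fU (lam x) (lam y) = ν⁻¹ * h.fU x y := by
    have hlmu : ∀ x, lam x = ν⁻¹ • mu x := fun x => by
      refine h.ext_f fun p => ?_
      have hmi : Function.Injective mu := (injective_iff_map_eq_zero _).2 fun u hu => h.ext_f fun v => by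
        rw [← hlm, hu, map_zero, map_zero]
      obtain ⟨u, rfl⟩ := LinearMap.injective_iff_surjective.1 hmi p
      rw [h.f_sym, hlm, map_smul, hν, smul_eq_mul, inv_mul_cancel_left₀ hν0, h.f_sym]
    intro x y
    rw [hlmu x, hlmu y]
    simp only [map_smul, LinearMap.smul_apply, hν, smul_eq_mul]
    field_simp
  -- conjugates of squares of isometries of the first factor
  have hsq : ∀ γ : Module.End F U, (∀ x y, h.fU (γ x) (γ y) = h.fU x y) → ∀ k ∈ M,
      (∀ u y, k (h.tp u y) = h.tp (γ (γ u)) y) → ∃ e ∈ M, ∃ r ∈ M, ∃ b, h.gW w b = 0 ∧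
        g * k * g⁻¹ = e * r ∧ (∃ η : Module.End F U, ∀ u y, e (h.tp u y) = h.tp (η u) y) ∧
          ∀ T, r T = T + h.sh w b 1 T := by
    intro γ hγ k hk ek
    let η₀ : Module.End F U := lam.toLinearMap ∘ₗ γ ∘ₗ lam.symm.toLinearMap
    have hη₀ : ∀ x y, h.fU (η₀ x) (η₀ y) = h.fU x y := fun x y => by
      obtain ⟨p, rfl⟩ := lam.surjective x
      obtain ⟨q, rfl⟩ := lam.surjective y
      simp [η₀, hsim, hγ]
    obtain ⟨e, he, ee⟩ := hG.sqU hV5 hη₀
    have ek' : ∀ u y, k (h.tp u y) = h.tp ((γ * γ) u) y := ek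
    have ee' : ∀ u y, e (h.tp u y) = h.tp ((η₀ * η₀) u) y := ee
    set r := e⁻¹ * (g * k * g⁻¹) with hr
    have hrM : r ∈ M := mul_mem (inv_mem he) (mul_mem (mul_mem hg hk) (inv_mem hg))
    have hrA : ∀ u, r (h.tp u w) = h.tp u w := fun u => by
      show e.symm (g (k (g.symm (h.tp u w)))) = _
      rw [LinearEquiv.symm_apply_eq, hgs, ek, hl, ee]
      simp [η₀]
    have hrc : ∀ b, h.gW w b = 0 → ∀ T, r (h.sh w b 1 T) = h.sh w b 1 (r T) := fun b hb T => by
      obtain ⟨c, hc, hcb⟩ := hperm b hb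
      have e1 : ∀ T, g.symm (h.sh w b 1 T) = h.sh w₀ c 1 (g.symm T) := fun T => by
        rw [LinearEquiv.symm_apply_eq, hcb, g.apply_symm_apply]
      show e.symm (g (k (g.symm (h.sh w b 1 T)))) = h.sh w b 1 (e.symm (g (k (g.symm T))))
      rw [e1, ← sh_commU hG hk ek', hcb, LinearEquiv.symm_apply_eq, ← sh_commU hG he ee', e.apply_symm_apply]
    have hrw : ∀ T, h.c w (r T) = h.c w T := fun T => by
      refine h.ext_f fun u => ?_
      rw [h.pol_c, h.pol_c, ← orth_polar (hG.le hrM) (h.tp u w) T, hrA]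
    have hY : h.Rad M w (r.toLinearMap - 1) := by
      refine ⟨⟨r, hrM, fun T => by simp⟩, fun u => by simp [hrA], fun u v hv => ?_, fun T => by simp [hrw]⟩
      have hmid : ∀ b, h.gW w b = 0 → h.gW w' b = 0 → r (h.tp u b) - h.tp u b ∈ h.A w := by
        intro b hb hb'
        have e := hrc b hb (h.tp u w')
        rw [sh_one_tp, h.g_sym b w', hb', fr.zz', zero_smul, one_smul, mul_one, zero_sub, map_sub, map_sub, map_neg,
          map_smul, map_neg, map_smul, hrA, sh_apply, adj_one] at e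
        simp only [Module.End.one_apply, hrw, h.c_tp, fr.zz', one_smul] at e
        rw [show r (h.tp u b) - h.tp u b = - h.tp (h.c b (r (h.tp u w'))) w by linear_combination (norm := module) -e]
        exact (h.A w).neg_mem (h.tp_mem_A _ _)
      have hwv : h.gW w v = 0 := by rw [h.g_sym, hv]
      rw [LinearMap.sub_apply, Module.End.one_apply, LinearEquiv.coe_coe, fr.decomp h.gN H.dW v, hwv, zero_smul,
        add_zero]
      simp only [map_add, map_smul, hrA]
      convert (h.A w).add_mem ((h.A w).smul_mem (h.gW b₁ v / h.gW b₁ b₁) (hmid b₁ fr.za fr.z'a))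
        ((h.A w).smul_mem (h.gW c₁ v / h.gW c₁ c₁) (hmid c₁ fr.wc fr.w'c)) using 1
      module
    obtain ⟨b, hb, hYe⟩ := hY.eq_sh4 hG H hN hw0 hw
    refine ⟨e, he, r, hrM, b, hb, by rw [hr, mul_inv_cancel_left], ⟨_, ee'⟩, fun T => ?_⟩
    rw [← hYe]; simp
  obtain ⟨z, -, hz0, hz⟩ := Nice.exists_iso_in h.fU (⊤ : Submodule F U) (by rw [finrank_top, H.dU])
  obtain ⟨z', a, fz⟩ := h.fN.exists_frame3 H.dU hz0 hz
  obtain ⟨s, hs0, hs1⟩ := H.hex
  -- the unipotent elements of the first factor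
  have hconj : ∀ {z z' a : U}, Frame3 h.fU z z' a → ∀ u y, g (h.tp (h.shU z a u) y) =
      (h.tp.flip y) 0 + g (h.tp (h.shU z a u) y) ∧ ∀ b S, S = g (h.tp u y) →
        h.c b (g (h.tp (h.shU z a u) y)) = lam (h.shU z a (lam.symm (h.c b S))) := by
    intro z z' a₀ kz u y
    refine ⟨by simp, fun b S hS => ?_⟩
    subst hS
    set a := (s * s - 1)⁻¹ • a₀ with ha
    have hza : h.fU z a = 0 := by rw [ha, map_smul, kz.za, smul_zero]
    have hh : h.fU z ((1 / 2 : F) • a) = 0 := by rw [map_smul, hza, smul_zero]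
    let γ₀ : Module.End F U := s • h.rk z z' + s⁻¹ • h.rk z' z + (h.fU a₀ a₀)⁻¹ • h.rk a₀ a₀
    have hγ₀ : ∀ x y, h.fU (γ₀ x) (γ₀ y) = h.fU x y := fun x y => by
      conv_rhs => rw [kz.decomp h.fN H.dU y]
      simp only [γ₀, LinearMap.add_apply, LinearMap.smul_apply, rk_apply, map_add, map_smul, smul_eq_mul, kz.iz,
        kz.iz', kz.zz', kz.z'z h.fN, kz.za, kz.z'a, kz.az h.fN, kz.az' h.fN, h.f_sym x z, h.f_sym x z', h.f_sym x a₀]
      have := kz.aa
      field_simp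
      ring
    obtain ⟨hh', hhM, ehh⟩ := hG.sqU hV5 hγ₀
    obtain ⟨k, hk, ek⟩ := hG.sqU hV5 (fun x y => shU_isom hG kz.iz hh x y)
    obtain ⟨d, hd, ed⟩ := act_sh (h := h.swap) hG.swap kz.iz kz.za
    have ed' : ∀ u x, d (h.tp u x) = h.tp (h.shU z a₀ u) x := fun u x => ed x u
    have hcomm : d = hh' * k * hh'⁻¹ * k⁻¹ := by
      rw [eq_mul_inv_iff_mul_eq, eq_mul_inv_iff_mul_eq]
      refine h.equiv_ext fun u y => ?_
      simp only [LinearEquiv.mul_apply, ehh, ek, ed']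
      congr 1
      congr 1
      have hz'z := kz.z'z h.fN
      have haz := kz.az h.fN
      have haz' := kz.az' h.fN
      have := kz.aa
      have hs : s * s - 1 ≠ 0 := sub_ne_zero.2 hs1
      have hs' : s ^ 2 - 1 ≠ 0 := by rwa [pow_two]
      conv_rhs => rw [kz.decomp h.fN H.dU u]
      conv_lhs => rw [kz.decomp h.fN H.dU u]
      simp only [γ₀, ha, shU_apply, LinearMap.add_apply, LinearMap.smul_apply, rk_apply, map_add, map_sub, map_smul,
        smul_eq_mul, kz.iz, kz.iz', kz.zz', hz'z, kz.za, kz.z'a, haz, haz']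
      match_scalars <;> field_simp <;> ring
    obtain ⟨e₁, he₁, r₁, hr₁, b₁', hb₁', q₁, ⟨η₁, ee₁⟩, er₁⟩ := hsq γ₀ hγ₀ hh' hhM ehh
    obtain ⟨e₂, he₂, r₂, hr₂, b₂', hb₂', q₂, ⟨η₂, ee₂⟩, er₂⟩ := hsq _ (fun x y => shU_isom hG kz.iz hh x y) k hk ek
    have cU : ∀ {e r : V ≃ₗ[F] V} {η : Module.End F U} {b : W}, e ∈ M → (∀ u y, e (h.tp u y) = h.tp (η u) y) →
        (∀ T, r T = T + h.sh w b 1 T) → Commute r e := fun he ee er => LinearEquiv.ext fun T => by
      rw [LinearEquiv.mul_apply, LinearEquiv.mul_apply, er, er, map_add, sh_commU hG he ee]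
    have cS : Commute r₁ r₂ := LinearEquiv.ext fun T => by
      rw [LinearEquiv.mul_apply, LinearEquiv.mul_apply, er₁, er₂, er₂, er₁, map_add, map_add,
        ← Module.End.mul_apply, ← Module.End.mul_apply, h.sh_mul hw hb₁' hb₂', h.sh_mul hw hb₂' hb₁',
        h.g_sym b₂' b₁']
      abel
    have hgd : g * d * g⁻¹ = e₁ * e₂ * e₁⁻¹ * e₂⁻¹ := by
      rw [← comm_of_mul (cU he₁ ee₁ er₁) (cU he₂ ee₂ er₁) (cU he₁ ee₁ er₂) (cU he₂ ee₂ er₂) cS, ← q₁, ← q₂, hcomm]
      group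
    have hEM : e₁ * e₂ * e₁⁻¹ * e₂⁻¹ ∈ M :=
      mul_mem (mul_mem (mul_mem he₁ he₂) (inv_mem he₁)) (inv_mem he₂)
    obtain ⟨η, hη⟩ : ∃ η : Module.End F U, ∀ u y, (e₁ * e₂ * e₁⁻¹ * e₂⁻¹) (h.tp u y) = h.tp (η u) y := by
      obtain ⟨i₁, f₁⟩ : ∃ i : Module.End F U, ∀ u y, e₁⁻¹ (h.tp u y) = h.tp (i u) y := by
        have hi := (Pure.bij (h := h) (lam := η₁) (S := 1) ee₁).1
        refine ⟨(LinearEquiv.ofBijective η₁ hi).symm.toLinearMap, fun u y => ?_⟩
        obtain ⟨p, rfl⟩ := hi.2 u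
        show e₁.symm _ = _
        rw [← ee₁, e₁.symm_apply_apply, LinearEquiv.coe_coe]
        congr 2
        exact ((LinearEquiv.ofBijective η₁ hi).symm_apply_apply p).symm
      obtain ⟨i₂, f₂⟩ : ∃ i : Module.End F U, ∀ u y, e₂⁻¹ (h.tp u y) = h.tp (i u) y := by
        have hi := (Pure.bij (h := h) (lam := η₂) (S := 1) ee₂).1
        refine ⟨(LinearEquiv.ofBijective η₂ hi).symm.toLinearMap, fun u y => ?_⟩
        obtain ⟨p, rfl⟩ := hi.2 u
        show e₂.symm _ = _
        rw [← ee₂, e₂.symm_apply_apply, LinearEquiv.coe_coe]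
        congr 2
        exact ((LinearEquiv.ofBijective η₂ hi).symm_apply_apply p).symm
      exact ⟨η₁ * η₂ * i₁ * i₂, fun u y => by
        simp only [LinearEquiv.mul_apply, f₁, f₂, ee₁, ee₂, Module.End.mul_apply]⟩
    rw [← hgd] at hη hEM
    have hval : ∀ p, η p = lam (h.shU z a₀ (lam.symm p)) := fun p => by
      apply h.tp_injective hw0
      rw [LinearMap.flip_apply, LinearMap.flip_apply, ← hη]
      show g (d (g.symm (h.tp p w))) = _
      rw [hgs, ed', hl]
    rw [← hval, ← c_actU hG.le hEM hη]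
    congr 1
    show _ = g (d (g.symm (g (h.tp u y))))
    rw [g.symm_apply_apply, ed']
  have hpure : ∀ b y, ∃ κ : F, ∀ u, h.c b (g (h.tp u y)) = κ • lam u := fun b y => by
    let T : Module.End F U := lam.symm.toLinearMap ∘ₗ h.c b ∘ₗ g.toLinearMap ∘ₗ h.tp.flip y
    have hT : ∀ {z z' a : U}, Frame3 h.fU z z' a → ∀ u, T (h.shU z a u) = h.shU z a (T u) := fun kz u => by
      simp only [T, LinearMap.comp_apply, LinearEquiv.coe_coe, LinearMap.flip_apply,
        (hconj kz u y).2 b _ rfl, lam.symm_apply_apply]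
    obtain ⟨κ, hκ⟩ := schur3 H.toThreeU fz (hT fz) (hT (fz.swap h.fN))
    refine ⟨κ, fun u => ?_⟩
    have := congrArg lam (hκ u)
    simpa [T] using this
  obtain ⟨u₀, hu₀⟩ := exists_ne (0 : U)
  obtain ⟨a₀, ha₀⟩ := h.fN.exists_one (fun e => hu₀ (lam.map_eq_zero_iff.1 e) : lam u₀ ≠ 0)
  obtain ⟨σ, hσ⟩ := exists_sigma (h := h) g a₀ u₀
  refine ⟨lam.toLinearMap, σ, fun u y => sub_eq_zero.1 (h.eq_zero_of_c fun b => ?_)⟩
  obtain ⟨κ, hκ⟩ := hpure b y
  have hk : h.gW b (σ y) = κ := by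
    rw [h.g_sym, hσ, hκ, map_smul, ha₀, smul_eq_mul, mul_one]
  rw [map_sub, hκ, LinearEquiv.coe_coe, h.c_tp, hk, sub_self]

end TData

end CfsgLib.TensorOO
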